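import Cfsg.Agent.Lib.Characters.Galois

/-! The Galois average of a weighted sum of squares of cyclotomic integers. -/

set_option autoImplicit false

namespace Cfsg.Agent.CharTheory.KGV

open Polynomial
open scoped ComplexConjugate

/-- Cyclotomic integers: integral elements of `ℚ(ζ)`. -/
def CycInt (ζ : ℂ) (z : ℂ) : Prop := IsIntegral ℤ z ∧ z ∈ Algebra.adjoin ℚ ({ζ} : Set ℂ)

theorem cycInt_sub {ζ z z' : ℂ} (h : CycInt ζ z) (h' : CycInt ζ z') : CycInt ζ (z - z') :=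
  ⟨h.1.sub h'.1, sub_mem h.2 h'.2⟩

theorem pow_eq_one_mem {M : ℕ} [NeZero M] {ζ w : ℂ} (hζ : IsPrimitiveRoot ζ M) (hw : w ^ M = 1) :
    w ∈ Algebra.adjoin ℚ ({ζ} : Set ℂ) := by
  obtain ⟨e, -, rfl⟩ := hζ.eq_pow_of_pow_eq_one hw
  exact pow_mem (Algebra.self_mem_adjoin_singleton ℚ ζ) e

theorem conj_root {M : ℕ} (hM : 0 < M) {μ : ℂ} (hμ : μ ^ M = 1) : conj μ = μ ^ (M - 1) := by
  have h1 : μ * μ ^ (M - 1) = 1 := by rw [← pow_succ', Nat.sub_add_cancel hM, hμ]
  rw [← inv_eq_of_mul_eq_one_right h1, Complex.inv_eq_conj]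
  exact Complex.norm_eq_one_of_pow_eq_one hμ hM.ne'

/-- If a nonnegative rational combination of squared absolute values of cyclotomic integers is
rational, it is at least the total weight of the nonzero ones. -/
theorem sum_weight_le {M : ℕ} (hM : 0 < M) {ζ : ℂ} (hζ : IsPrimitiveRoot ζ M) {ι : Type*}
    [Fintype ι] (w : ι → ℚ) (hw : ∀ i, 0 ≤ w i) (z : ι → ℂ) (hz : ∀ i, CycInt ζ (z i)) {q : ℚ}
    (hq : ∑ i, (w i : ℝ) * ‖z i‖ ^ 2 = (q : ℝ)) :
    ∑ i, (if z i = 0 then 0 else w i) ≤ q := by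
  classical
  have hP : ∀ i, ∃ P : ℚ[X], aeval ζ P = z i := fun i => by
    have := (hz i).2
    rw [Algebra.adjoin_singleton_eq_range_aeval] at this
    exact this
  choose P hP using hP
  set R := primitiveRoots M ℂ
  have hprim : ∀ μ ∈ R, IsPrimitiveRoot μ M := fun μ hμ => (mem_primitiveRoots hM).1 hμ
  have hint : ∀ i, ∀ μ ∈ R, IsIntegral ℤ (aeval μ (P i)) := by
    intro i μ hμ
    obtain ⟨Q, hQm, hQ⟩ := (hz i).1
    refine ⟨Q, hQm, ?_⟩
    rw [← aeval_def] at hQ ⊢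
    have h0 : aeval ζ ((Q.map (algebraMap ℤ ℚ)).comp (P i)) = ((0 : ℚ) : ℂ) := by
      rw [aeval_comp, hP i, aeval_map_algebraMap, hQ, Rat.cast_zero]
    have h1 := Characters.aeval_eq_rat_of_primitive hM hζ (hprim μ hμ) _ h0
    rwa [aeval_comp, aeval_map_algebraMap, Rat.cast_zero] at h1
  have hne : ∀ i, z i ≠ 0 → ∀ μ ∈ R, aeval μ (P i) ≠ 0 := by
    intro i hi μ hμ h
    have := Characters.aeval_eq_rat_of_primitive hM (hprim μ hμ) hζ (P i) (q := 0) (by simpa using h)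
    rw [hP, Rat.cast_zero] at this
    exact hi this
  -- the identity at every primitive root
  let Q : ℚ[X] := ∑ i, C (w i) * P i * (P i).comp (X ^ (M - 1))
  have hQev : ∀ μ ∈ R, aeval μ Q = ((∑ i, (w i : ℝ) * ‖aeval μ (P i)‖ ^ 2 : ℝ) : ℂ) := by
    intro μ hμ
    simp only [Q, map_sum, map_mul, aeval_C, aeval_comp, map_pow, aeval_X]
    push_cast
    refine Finset.sum_congr rfl fun i _ => ?_
    rw [← conj_root hM (hprim μ hμ).pow_eq_one,
      show aeval (conj μ) (P i) = conj (aeval μ (P i)) from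
        aeval_algHom_apply (Complex.conjAe.toAlgHom.restrictScalars ℚ) μ (P i),
      mul_assoc, Complex.mul_conj', eq_ratCast]
  have hζR : ζ ∈ R := (mem_primitiveRoots hM).2 hζ
  have hall : ∀ μ ∈ R, ∑ i, (w i : ℝ) * ‖aeval μ (P i)‖ ^ 2 = (q : ℝ) := by
    intro μ hμ
    have h0 : aeval ζ Q = (q : ℂ) := by
      rw [hQev ζ hζR]
      simp only [hP, hq, Complex.ofReal_ratCast]
    have h1 := (hQev μ hμ).symm.trans (Characters.aeval_eq_rat_of_primitive hM hζ (hprim μ hμ) Q h0)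
    rw [← Complex.ofReal_ratCast, Complex.ofReal_inj] at h1
    exact h1
  -- each nonzero term averages to at least one
  have havg : ∀ i, z i ≠ 0 → (R.card : ℝ) ≤ ∑ μ ∈ R, ‖aeval μ (P i)‖ ^ 2 := by
    intro i hi
    have hprod := Characters.one_le_prod_norm_primitiveRoots hM (P i) (hint i) (hne i hi)
    have hpos : ∀ μ ∈ R, 0 < ‖aeval μ (P i)‖ ^ 2 := fun μ hμ =>
      pow_pos (norm_pos_iff.2 (hne i hi μ hμ)) 2
    have hlog : 0 ≤ ∑ μ ∈ R, Real.log (‖aeval μ (P i)‖ ^ 2) := by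
      rw [← Real.log_prod (fun μ hμ => (hpos μ hμ).ne'), Finset.prod_pow]
      exact Real.log_nonneg (one_le_pow₀ hprod)
    have h2 := hlog.trans (Finset.sum_le_sum fun μ hμ => Real.log_le_sub_one_of_pos (hpos μ hμ))
    rwa [Finset.sum_sub_distrib, sub_nonneg, Finset.sum_const, nsmul_one] at h2
  have hR0 : (0 : ℝ) < R.card := by exact_mod_cast Finset.card_pos.2 ⟨ζ, hζR⟩
  have htot : (R.card : ℝ) * ((∑ i, (if z i = 0 then 0 else w i) : ℚ) : ℝ) ≤ R.card * (q : ℝ) := by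
    calc (R.card : ℝ) * ((∑ i, (if z i = 0 then 0 else w i) : ℚ) : ℝ)
        ≤ ∑ i, (w i : ℝ) * ∑ μ ∈ R, ‖aeval μ (P i)‖ ^ 2 := by
          push_cast
          rw [Finset.mul_sum]
          refine Finset.sum_le_sum fun i _ => ?_
          have hwi : (0 : ℝ) ≤ w i := by exact_mod_cast hw i
          split_ifs with h
          · rw [Rat.cast_zero, mul_zero]
            exact mul_nonneg hwi (Finset.sum_nonneg fun _ _ => sq_nonneg _)
          · rw [mul_comm]
            exact mul_le_mul_of_nonneg_left (havg i h) hwi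
      _ = ∑ μ ∈ R, ∑ i, (w i : ℝ) * ‖aeval μ (P i)‖ ^ 2 := by
          simp only [Finset.mul_sum]; rw [Finset.sum_comm]
      _ = R.card * (q : ℝ) := by
          rw [Finset.sum_congr rfl hall, Finset.sum_const, nsmul_eq_mul]
  exact_mod_cast le_of_mul_le_mul_left htot hR0

end Cfsg.Agent.CharTheory.KGV
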