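import Cfsg.Agent.Lib.CharTheory.KGV.Fix
import Cfsg.Agent.Lib.CharTheory.KGV.Galois
import Cfsg.Agent.Lib.Blocks.LocalRing

/-! Gauss sums of invariant quadratic forms and the fixed points of a coprime element. -/

set_option autoImplicit false
set_option linter.unusedSectionVars false
set_option linter.style.haveILetI false

namespace Cfsg.Agent.CharTheory.KGV.Gauss

open scoped ComplexConjugate

variable {p : ℕ} [Fact p.Prime]

theorem std_pow (a : ZMod p) : ZMod.stdAddChar a ^ p = (1 : ℂ) := by
  rw [← AddChar.map_nsmul_eq_pow, nsmul_eq_mul, ZMod.natCast_self, zero_mul,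
    AddChar.map_zero_eq_one]

theorem std_conj (a : ZMod p) : conj (ZMod.stdAddChar a : ℂ) = ZMod.stdAddChar (-a) := by
  rw [AddChar.map_neg_eq_inv, Complex.inv_eq_conj]
  exact Complex.norm_eq_one_of_pow_eq_one (std_pow a) (Fact.out : p.Prime).ne_zero

variable {W : Type*} [AddCommGroup W]

/-- The Gauss sum of a bilinear form. -/
noncomputable def gauss (B : W →+ W →+ ZMod p) : ℂ := ∑ᶠ y, (ZMod.stdAddChar (B y y) : ℂ)

theorem gauss_eq [Fintype W] (B : W →+ W →+ ZMod p) :
    gauss B = ∑ y, (ZMod.stdAddChar (B y y) : ℂ) := finsum_eq_sum_of_fintype _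

theorem gauss_mul_conj [Fintype W] (B : W →+ W →+ ZMod p) (hsymm : ∀ x y, B x y = B y x)
    (hnd : ∀ x, (∀ y, B x y + B x y = 0) → x = 0) :
    gauss B * conj (gauss B) = (Fintype.card W : ℂ) := by
  classical
  rw [gauss_eq, map_sum, Finset.sum_mul_sum, Finset.sum_comm]
  have h : ∀ y : W, ∑ x, (ZMod.stdAddChar (B x x) : ℂ) * conj (ZMod.stdAddChar (B y y) : ℂ) =
      ∑ z, (ZMod.stdAddChar (B z z) : ℂ) * ZMod.stdAddChar (B z y + B z y) := by
    intro y
    rw [← Equiv.sum_comp (Equiv.addRight y)]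
    refine Finset.sum_congr rfl fun z _ => ?_
    rw [std_conj, ← AddChar.map_add_eq_mul, ← AddChar.map_add_eq_mul]
    congr 1
    simp only [Equiv.coe_addRight, map_add, AddMonoidHom.add_apply, hsymm y z]
    ring
  rw [Finset.sum_congr rfl fun y _ => h y, Finset.sum_comm, Finset.sum_eq_single (0 : W)]
  · simp
  · intro z _ hz
    rw [← Finset.mul_sum]
    refine mul_eq_zero_of_right _ ?_
    let χ : AddChar W ℂ := ZMod.stdAddChar.compAddMonoidHom (B z + B z)
    show ∑ y, χ y = 0
    rw [AddChar.sum_eq_zero_iff_ne_zero]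
    intro e
    refine hz (hnd z fun y => ?_)
    apply ZMod.injective_stdAddChar
    rw [AddChar.map_zero_eq_one]
    exact DFunLike.congr_fun e y
  · simp

variable {C : Type*} [Group C] [Finite C] [DistribMulAction C W]

/-- A bilinear form seen on a subgroup. -/
def resForm (B : W →+ W →+ ZMod p) (K : AddSubgroup W) : K →+ K →+ ZMod p where
  toFun x := (B x.1).comp K.subtype
  map_zero' := by ext; simp
  map_add' a b := by ext; simp

theorem resForm_apply (B : W →+ W →+ ZMod p) (K : AddSubgroup W) (x y : K) :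
    resForm B K x y = B x.1 y.1 := rfl

variable [Fintype W]

/-- The sum over the fixed points. -/
noncomputable def fixSum (B : W →+ W →+ ZMod p) (h : C) : ℂ :=
  gauss (resForm B (Fix.fix (U := W) h))

theorem fixSum_eq [DecidableEq W] (B : W →+ W →+ ZMod p) (h : C) :
    fixSum B h = ∑ y : W, if h • y = y then (ZMod.stdAddChar (B y y) : ℂ) else 0 := by
  classical
  rw [← Finset.sum_filter, fixSum, gauss_eq]
  exact (Finset.sum_subtype (Finset.univ.filter fun y : W => h • y = y)
    (p := fun y => y ∈ Fix.fix h) (fun y => by simp [Fix.mem_fix])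
    fun y => (ZMod.stdAddChar (B y y) : ℂ)).symm

variable (B : W →+ W →+ ZMod p) (hsymm : ∀ x y, B x y = B y x)
  (hnd : ∀ x, (∀ y, B x y + B x y = 0) → x = 0) (hW : ∀ w : W, p • w = 0)
  (hcop : ¬ p ∣ Nat.card C) (h : C) (hinv : ∀ x y, B (h • x) (h • y) = B x y)

include hsymm hnd hW hcop hinv

theorem fixSum_mul_conj :
    fixSum B h * conj (fixSum B h) = (Nat.card (Fix.fix (U := W) h) : ℂ) := by
  haveI := Fintype.ofFinite (Fix.fix (U := W) h)
  rw [fixSum, gauss_mul_conj _ (fun x y => by simp only [resForm_apply]; exact hsymm _ _) ?_,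
    Nat.card_eq_fintype_card]
  intro x hx
  refine Subtype.ext (hnd x.1 fun v => ?_)
  have := hx ⟨Fix.proj p h v, Fix.proj_mem h v⟩
  simp only [resForm_apply] at this
  rw [hsymm x.1, Fix.invariant_proj p hW hcop h x.2 B hinv, hsymm v] at this
  exact this

/-- The Gauss sum over the displacements. -/
theorem exists_complement_sum :
    ∃ R : ℂ, gauss B = fixSum B h * R ∧ IsIntegral ℤ R ∧
      ((∃ w : W, h • w ≠ w) → ∀ M : Ideal Cfsg.AlgInt, Cfsg.IsPModular p M →
        Cfsg.MemLocalIdeal M R) := by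
  classical
  haveI := Fintype.ofFinite (Fix.fix (U := W) h)
  haveI := Fintype.ofFinite (Fix.move (U := W) h).range
  refine ⟨∑ r : (Fix.move (U := W) h).range, ZMod.stdAddChar (B r.1 r.1), ?_, ?_, ?_⟩
  · rw [gauss_eq, ← Equiv.sum_comp (Fix.split hW hcop h), Fintype.sum_prod_type, fixSum, gauss_eq,
      Finset.sum_mul_sum]
    refine Finset.sum_congr rfl fun a _ => Finset.sum_congr rfl fun r _ => ?_
    rw [← AddChar.map_add_eq_mul]
    congr 1
    obtain ⟨v, hv⟩ := r.2
    have h0 : B r.1 a.1 = 0 := by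
      rw [← hv, ← Fix.invariant_proj p hW hcop h a.2 B hinv, Fix.proj_move, map_zero,
        AddMonoidHom.zero_apply]
    show B (a.1 + r.1) (a.1 + r.1) = B a.1 a.1 + B r.1 r.1
    simp only [map_add, AddMonoidHom.add_apply, h0, hsymm a.1 r.1]
    ring
  · exact IsIntegral.sum _ fun r _ => IsIntegral.of_pow (Fact.out : p.Prime).pos
      (by rw [std_pow]; exact isIntegral_one)
  · rintro ⟨w, hw⟩ M hM
    have h1 := Blocks.cong_sum hM (s := (Finset.univ : Finset (Fix.move (U := W) h).range))
      (f := fun r => (ZMod.stdAddChar (B r.1 r.1) : ℂ)) (g := fun _ => (1 : ℂ))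
      fun r _ => Blocks.cong_one_of_pow_prime_pow hM (k := 1) (by rw [pow_one]; exact std_pow _)
    rw [Finset.sum_const, Finset.card_univ, nsmul_one] at h1
    refine Blocks.cong_zero_iff.1 (Blocks.cong_trans hM h1 (Blocks.cong_zero_iff.2 ?_))
    rw [Blocks.ideal_natCast_iff hM, ← Nat.card_eq_fintype_card]
    let r : (Fix.move (U := W) h).range := ⟨_, w, rfl⟩
    have hord : addOrderOf r = p := by
      refine addOrderOf_eq_prime (Subtype.ext ?_) fun e => hw ?_
      · simpa using hW r.1
      · have := congrArg Subtype.val e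
        simp only [r, Fix.move_apply, ZeroMemClass.coe_zero, sub_eq_zero] at this
        exact this.symm
    exact hord ▸ addOrderOf_dvd_natCard r

end Cfsg.Agent.CharTheory.KGV.Gauss
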