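import Cfsg.Agent.Lib.CharTheory.KGV.Weil
import Cfsg.Agent.Lib.CharTheory.KGV.Gauss
import Cfsg.Agent.Lib.CharTheory.SelfDual

/-!
The class function attached to a faithful self-dual module of a group of order prime to `p`.
-/

set_option autoImplicit false
set_option linter.unusedSectionVars false
set_option linter.style.haveILetI false

namespace Cfsg.Agent.CharTheory.KGV.RealVector

open Cfsg.Agent.Characters
open scoped ComplexConjugate

universe u

variable {p : ℕ} [Fact p.Prime] {C : Type u} [Group C] [Finite C]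

/-- The properties needed of the class function. -/
structure Good (U : Type u) [AddCommGroup U] [DistribMulAction C U] (p : ℕ) (f : C → ℂ) : Prop where
  classFun : Cfsg.IsClassFunction C f
  one : f 1 = 1
  integral : ∀ h, IsIntegral ℤ (f h)
  mem_adjoin : ∀ {M : ℕ} {ζ : ℂ}, 0 < M → IsPrimitiveRoot ζ M → Nat.card C * p ∣ M →
    ∀ h, f h ∈ Algebra.adjoin ℚ ({ζ} : Set ℂ)
  ideal : ∀ h, h ≠ 1 → ∀ M : Ideal Cfsg.AlgInt, Cfsg.IsPModular p M → Cfsg.MemLocalIdeal M (f h)
  norm : ∀ h, f h * conj (f h) * (Nat.card (Fix.fix (U := U) h) : ℂ) = (Nat.card U : ℂ)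
  coeff : ∀ [Fintype C] (η : C → ℂ), Cfsg.IsCharacter C η →
    IsIntegral ℤ ((Nat.card C : ℂ)⁻¹ * ∑ h : C, η h * f h)

theorem card_fix_prod {X Y : Type*} [AddCommGroup X] [AddCommGroup Y] [DistribMulAction C X]
    [DistribMulAction C Y] (h : C) :
    Nat.card (Fix.fix (U := X × Y) h) =
      Nat.card (Fix.fix (U := X) h) * Nat.card (Fix.fix (U := Y) h) := by
  rw [← Nat.card_prod]
  exact Nat.card_congr
    { toFun := fun x => (⟨x.1.1, congrArg Prod.fst x.2⟩, ⟨x.1.2, congrArg Prod.snd x.2⟩)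
      invFun := fun x => ⟨(x.1.1, x.2.1), Prod.ext x.1.2 x.2.2⟩
      left_inv := fun _ => rfl
      right_inv := fun _ => rfl }

theorem card_fix_conj {X : Type*} [AddCommGroup X] [DistribMulAction C X] (g c : C) :
    Nat.card (Fix.fix (U := X) (c * g * c⁻¹)) = Nat.card (Fix.fix (U := X) g) :=
  Nat.card_congr
    { toFun := fun x => ⟨c⁻¹ • x.1, by
        rw [Fix.mem_fix]
        conv_rhs => rw [← x.2]
        simp only [← mul_smul]
        group⟩
      invFun := fun x => ⟨c • x.1, by
        rw [Fix.mem_fix, ← mul_smul, inv_mul_cancel_right, mul_smul, x.2]⟩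
      left_inv := fun x => Subtype.ext (smul_inv_smul _ _)
      right_inv := fun x => Subtype.ext (inv_smul_smul _ _) }

theorem card_fix_one {X : Type*} [AddCommGroup X] [DistribMulAction C X] :
    Nat.card (Fix.fix (U := X) (1 : C)) = Nat.card X :=
  Nat.card_congr (Equiv.subtypeUnivEquiv fun x => Fix.mem_fix.2 (one_smul C x))

variable {U₁ W : Type u} [AddCommGroup U₁] [Finite U₁] [Module (ZMod p) U₁] [DistribMulAction C U₁]
  [AddCommGroup W] [Fintype W] [Module (ZMod p) W] [DistribMulAction C W]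

/-- The function for a symplectic module and an orthogonal module. -/
theorem exists_good (hcop : ¬ p ∣ Nat.card C) (A : U₁ →+ U₁ →+ ZMod p) (halt : ∀ x, A x x = 0)
    (hAinv : ∀ (g : C) x y, A (g • x) (g • y) = A x y) (hAnd : ∀ x, (∀ y, A x y = 0) → x = 0)
    (B : W →+ W →+ ZMod p) (hsymm : ∀ x y, B x y = B y x)
    (hBnd : ∀ x, (∀ y, B x y + B x y = 0) → x = 0)
    (hBinv : ∀ (g : C) x y, B (g • x) (g • y) = B x y)
    (hfaith : ∀ h : C, (∀ x : U₁, h • x = x) → (∀ w : W, h • w = w) → h = 1) :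
    ∃ f : C → ℂ, Good (U₁ × W) p f := by
  classical
  have hp : p.Prime := Fact.out
  have hp0 : (p : ℂ) ≠ 0 := Nat.cast_ne_zero.2 hp.ne_zero
  obtain ⟨c, hc, hcA⟩ := Heisenberg.exists_cocycle hcop A halt hAinv
  obtain ⟨φ, n, hφ, hU, hloc⟩ := Weil.exists_weil hc hcA hAnd hcop
  have hW : ∀ w : W, p • w = 0 := Weil.nsmul_p
  set π : C → ℕ := fun h => Nat.card (Fix.fix (U := U₁ × W) h) with hπ
  have hπprod : ∀ h, π h = Nat.card (Fix.fix (U := U₁) h) * Nat.card (Fix.fix (U := W) h) :=
    fun h => card_fix_prod h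
  have hπ0 : ∀ h, (π h : ℂ) ≠ 0 := fun h => Nat.cast_ne_zero.2 Nat.card_pos.ne'
  set G := Gauss.gauss B with hG
  have hGG : G * conj G = (Nat.card W : ℂ) := by
    rw [Nat.card_eq_fintype_card]; exact Gauss.gauss_mul_conj B hsymm hBnd
  have hSS := fun h : C => Gauss.fixSum_mul_conj B hsymm hBnd hW hcop h (hBinv h)
  set N : ℂ := (p : ℂ) ^ n * G with hN
  set f : C → ℂ := fun h => N * (conj (φ h) * conj (Gauss.fixSum B h)) * (π h : ℂ)⁻¹ with hf
  -- the local description
  have hdesc : ∀ h, ∃ (d : ℕ) (e R : ℂ), d ≤ n ∧ Nat.card (Fix.fix (U := U₁) h) = p ^ (2 * d) ∧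
      φ h * conj (φ h) = (Nat.card (Fix.fix (U := U₁) h) : ℂ) ∧
      IsIntegral ℤ e ∧ IsIntegral ℤ R ∧ ((∃ w : W, h • w ≠ w) →
        ∀ M : Ideal Cfsg.AlgInt, Cfsg.IsPModular p M → Cfsg.MemLocalIdeal M R) ∧
      f h = (p : ℂ) ^ (n - d) * (conj e * R) := by
    intro h
    obtain ⟨d, e, hdn, hd, hφh, he, hee⟩ := hloc h
    obtain ⟨R, hR, hRint, hRid⟩ := Gauss.exists_complement_sum B hsymm hBnd hW hcop h (hBinv h)
    have hnorm : φ h * conj (φ h) = (Nat.card (Fix.fix (U := U₁) h) : ℂ) := by
      rw [hφh, hd, map_mul, map_pow, Complex.conj_natCast, Nat.cast_pow, two_mul, pow_add]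
      linear_combination (p : ℂ) ^ d * (p : ℂ) ^ d * hee
    refine ⟨d, e, R, hdn, hd, hnorm, he, hRint, hRid, ?_⟩
    simp only [hf, hN, hG]
    rw [mul_inv_eq_iff_eq_mul₀ (hπ0 h), hR, hπprod, hd, hφh, Nat.cast_mul, ← hSS h, map_mul,
      map_pow, Complex.conj_natCast]
    push_cast
    have hn : (p : ℂ) ^ n = (p : ℂ) ^ (n - d) * (p : ℂ) ^ d := by
      rw [← pow_add, Nat.sub_add_cancel hdn]
    rw [hn]
    ring
  have hconjint : ∀ {z : ℂ}, IsIntegral ℤ z → IsIntegral ℤ (conj z) := fun hz =>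
    hz.map ((Complex.conjAe.toAlgHom).restrictScalars ℤ)
  have hint : ∀ h, IsIntegral ℤ (f h) := by
    intro h
    obtain ⟨d, e, R, -, -, -, he, hR, -, hfh⟩ := hdesc h
    rw [hfh]
    exact ((Integrality.isIntegral_natCast p).pow _).mul ((hconjint he).mul hR)
  refine ⟨f, ?_, ?_, hint, ?_, ?_, ?_, ?_⟩
  · intro g c'
    simp only [hf]
    rw [char_isClassFunction hφ g c']
    congr 2
    · congr 2
      rw [Gauss.fixSum_eq, Gauss.fixSum_eq, ← Equiv.sum_comp (MulAction.toPerm c')]
      refine Finset.sum_congr rfl fun y _ => if_congr ?_ ?_ rfl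
      · show (c' * g * c'⁻¹) • c' • y = c' • y ↔ g • y = y
        rw [← mul_smul, inv_mul_cancel_right, mul_smul, smul_left_cancel_iff]
      · show (ZMod.stdAddChar (B (c' • y) (c' • y)) : ℂ) = _
        rw [hBinv]
    · exact_mod_cast card_fix_conj g c'
  · -- the value at the identity
    obtain ⟨d, e, R, hdn, hd, hnorm, -⟩ := hdesc 1
    rw [card_fix_one, hU] at hnorm
    obtain ⟨k, hk⟩ := char_one_nat hφ
    rw [hk, Complex.conj_natCast, ← Nat.cast_mul, Nat.cast_inj, two_mul, pow_add] at hnorm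
    have hk' : k = p ^ n := Nat.mul_self_inj.1 hnorm
    have hS1 : Gauss.fixSum B (1 : C) = G := by
      rw [Gauss.fixSum_eq, hG, Gauss.gauss_eq]
      simp
    simp only [hf, hN]
    rw [mul_inv_eq_iff_eq_mul₀ (hπ0 1), one_mul, hπprod, card_fix_one, card_fix_one, hk, hS1, hk',
      hU, Nat.cast_mul, ← hGG, Complex.conj_natCast]
    push_cast
    ring
  · intro M ζ hM hζ hdvd h
    haveI : NeZero M := ⟨hM.ne'⟩
    have hroot : ∀ a : ZMod p, (ZMod.stdAddChar a : ℂ) ∈ Algebra.adjoin ℚ ({ζ} : Set ℂ) := fun a =>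
      pow_eq_one_mem hζ (by
        obtain ⟨k, hk⟩ := (dvd_mul_left p (Nat.card C)).trans hdvd
        rw [hk, pow_mul, Gauss.std_pow, one_pow])
    have hφmem : ∀ g, φ g ∈ Algebra.adjoin ℚ ({ζ} : Set ℂ) := fun g => by
      obtain ⟨m, ρ, rfl⟩ := hφ
      obtain ⟨w, hw, hsum⟩ := exists_rootsOfUnity_sum ρ g
      rw [show ρ.character g = ∑ i, w i from by simpa using hsum 1]
      refine sum_mem fun i _ => pow_eq_one_mem hζ ?_
      obtain ⟨k, hk⟩ := (orderOf_dvd_natCard g).trans ((dvd_mul_right _ p).trans hdvd)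
      rw [hk, pow_mul, hw i, one_pow]
    simp only [hf]
    refine mul_mem (mul_mem (mul_mem (pow_mem (natCast_mem _ p) _) ?_) (mul_mem ?_ ?_)) ?_
    · rw [hG, Gauss.gauss_eq]
      exact sum_mem fun y _ => hroot _
    · rw [← char_inv hφ]
      exact hφmem _
    · rw [Gauss.fixSum_eq, map_sum]
      refine sum_mem fun y _ => ?_
      split_ifs
      · rw [Gauss.std_conj]; exact hroot _
      · rw [map_zero]; exact zero_mem _
    · rw [show (π h : ℂ)⁻¹ = algebraMap ℚ ℂ ((π h : ℚ)⁻¹) by simp]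
      exact Subalgebra.algebraMap_mem _ _
  · intro h hh M hM
    obtain ⟨d, e, R, hdn, hd, -, he, hR, hRid, hfh⟩ := hdesc h
    rw [hfh]
    by_cases hmove : ∃ w : W, h • w ≠ w
    · exact Blocks.ideal_mul_left hM
        (Blocks.ring_of_isIntegral hM ((Integrality.isIntegral_natCast p).pow _))
        (Blocks.ideal_mul_left hM (Blocks.ring_of_isIntegral hM (hconjint he)) (hRid hmove M hM))
    · have hlt : d < n := by
        refine lt_of_le_of_ne hdn fun e1 => hh (hfaith h (fun x => ?_) (not_exists_not.1 hmove))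
        have htop : Fix.fix (U := U₁) h = ⊤ :=
          AddSubgroup.eq_top_of_le_card _ (by rw [hd, hU, e1])
        exact Fix.mem_fix.1 (htop ▸ AddSubgroup.mem_top x)
      refine Blocks.ideal_mul_right hM (Blocks.ideal_pow hM (Blocks.ideal_p hM) (by omega))
        (Blocks.ring_of_isIntegral hM ((hconjint he).mul hR))
  · intro h
    obtain ⟨d, e, R, -, -, hnorm, -⟩ := hdesc h
    show f h * conj (f h) * (π h : ℂ) = _
    simp only [hf, hN, map_mul, map_inv₀, map_pow, Complex.conj_natCast, Complex.conj_conj]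
    have h1 := hπ0 h
    field_simp
    rw [Nat.card_prod, hU, hπprod, Nat.cast_mul, Nat.cast_mul, ← hnorm, ← hSS h, ← hGG]
    push_cast
    ring
  · intro inst η hη
    have hpk : ∀ h : C, ∃ k, π h = p ^ k := by
      intro h
      obtain ⟨k, hk⟩ := Weil.exists_card_eq (p := p) (U := U₁ × W)
      obtain ⟨i, -, hi⟩ := (Nat.dvd_prime_pow hp).1
        (hk ▸ AddSubgroup.card_addSubgroup_dvd_card (Fix.fix (U := U₁ × W) h))
      exact ⟨i, hi⟩
    choose dd hdd using hpk
    have hNint : IsIntegral ℤ N := ((Integrality.isIntegral_natCast p).pow n).mul (by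
      rw [hG, Gauss.gauss_eq]
      exact IsIntegral.sum _ fun y _ => IsIntegral.of_pow hp.pos
        (by rw [Gauss.std_pow]; exact isIntegral_one))
    refine Integrality.quotient_isIntegral hcop hNint dd
      (fun h => conj (φ h) * conj (Gauss.fixSum B h)) f hint (fun h => ?_) (fun j η' hη' => ?_) hη
    · rw [← Nat.cast_pow, ← hdd]
      simp only [hf]
      rw [inv_mul_cancel_right₀ (hπ0 h)]
    · haveI := Fintype.ofFinite U₁
      let w : W × (Fin j → U₁ × W) → ℂ := fun y => conj (ZMod.stdAddChar (B y.1 y.1) : ℂ)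
      have hprod : Cfsg.IsCharacter C (η' * fun h => conj (φ h)) :=
        isCharacter_mul hη' (Basics.isCharacter_conj hφ)
      have key := Integrality.sum_fixed_isIntegral (C := C) w
        (fun y => hconjint (IsIntegral.of_pow hp.pos (by rw [Gauss.std_pow]; exact isIntegral_one)))
        (fun g y => by
          show conj (ZMod.stdAddChar (B (g • y.1) (g • y.1)) : ℂ) = _
          rw [hBinv]) hprod
      convert key using 3 with h
      have hcnt : (((Finset.univ : Finset (Fin j → U₁ × W)).filter fun z => h • z = z).card : ℂ) =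
          (π h : ℂ) ^ j := by
        rw [← Nat.cast_pow, Nat.cast_inj, ← Fintype.card_subtype, ← Nat.card_eq_fintype_card,
          ← Fintype.card_fin j, ← Nat.card_eq_fintype_card (α := Fin j), hπ, ← Nat.card_fun,
          Nat.card_eq_fintype_card (α := Fin j), Fintype.card_fin]
        exact Nat.card_congr ((Equiv.subtypeEquivRight fun z => funext_iff).trans
          (Equiv.subtypePiEquivPi (p := fun (_ : Fin j) (x : U₁ × W) => h • x = x)))
      rw [← Nat.cast_pow, ← hdd]
      show η' h * (conj (φ h) * conj (Gauss.fixSum B h) * (π h : ℂ) ^ j) =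
        η' h * conj (φ h) * ∑ y : W × (Fin j → U₁ × W), if h • y = y then w y else 0
      rw [Gauss.fixSum_eq, map_sum, ← hcnt, Fintype.sum_prod_type]
      simp only [Finset.mul_sum, Finset.sum_mul]
      refine Finset.sum_congr rfl fun y _ => ?_
      by_cases hy : h • y = y
      · rw [if_pos hy, Finset.card_filter, Nat.cast_sum, Finset.mul_sum, Finset.mul_sum]
        refine Finset.sum_congr rfl fun z _ => ?_
        by_cases hz : h • z = z
        · rw [if_pos hz, if_pos (Prod.ext hy hz)]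
          simp only [w]; push_cast; ring
        · rw [if_neg hz, if_neg fun e1 => hz (congrArg Prod.snd e1)]
          simp
      · rw [if_neg hy, map_zero, mul_zero, zero_mul, mul_zero]
        refine (Finset.sum_eq_zero fun z _ => ?_).symm
        rw [if_neg fun e1 => hy (congrArg Prod.fst e1), mul_zero]

theorem Good.congr {U V : Type u} [AddCommGroup U] [DistribMulAction C U] [AddCommGroup V]
    [DistribMulAction C V] [Finite U] {f : C → ℂ} (hf : Good U p f)
    (hcard : ∀ h : C, Nat.card U * Nat.card (Fix.fix (U := V) h) =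
      Nat.card V * Nat.card (Fix.fix (U := U) h)) : Good V p f :=
  { hf with
    norm := fun h => by
      have h0 : (Nat.card (Fix.fix (U := U) h) : ℂ) ≠ 0 := Nat.cast_ne_zero.2 Nat.card_pos.ne'
      have h1 := hf.norm h
      have h2 : (Nat.card U : ℂ) * (Nat.card (Fix.fix (U := V) h) : ℂ) =
          (Nat.card V : ℂ) * (Nat.card (Fix.fix (U := U) h) : ℂ) := by exact_mod_cast hcard h
      refine mul_right_cancel₀ h0 ?_
      linear_combination (Nat.card (Fix.fix (U := V) h) : ℂ) * h1 + h2 }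

/-- A faithful module with an invariant nondegenerate pairing has such a function. -/
theorem exists_good_of_pairing {U : Type u} [AddCommGroup U] [Finite U] [Module (ZMod p) U]
    [DistribMulAction C U] (hcop : ¬ p ∣ Nat.card C) (b : U →+ U →+ ZMod p)
    (hbinv : ∀ (g : C) x y, b (g • x) (g • y) = b x y) (hbnd : ∀ x, (∀ y, b x y = 0) → x = 0)
    (hfaith : ∀ h : C, (∀ x : U, h • x = x) → h = 1) :
    ∃ f : C → ℂ, Good U p f := by
  classical
  have hp : p.Prime := Fact.out
  let ρ : Representation (ZMod p) C U :=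
    { toFun := fun g => (DistribSMul.toAddMonoidHom U g).toZModLinearMap p
      map_one' := LinearMap.ext fun x => one_smul C x
      map_mul' := fun g g' => LinearMap.ext fun x => mul_smul g g' x }
  let bL : LinearMap.BilinForm (ZMod p) U :=
    LinearMap.mk₂ (ZMod p) (fun x y => b x y) (fun x x' y => by rw [map_add, AddMonoidHom.add_apply])
      (fun a x y => by rw [ZMod.map_smul b, AddMonoidHom.smul_apply]) (fun x y y' => map_add _ _ _)
      (fun a x y => ZMod.map_smul (b x) a y)
  obtain ⟨U₁, W, h1, h2, hU₁, hW, ⟨A, hAalt, hAinv, hAnd⟩, ⟨S, hSsymm, hSinv, hSnd⟩, htriv⟩ :=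
    CharTheory.SelfDual.exists_decomposition ρ bL p
      (by rw [Ne, CharP.cast_eq_zero_iff (ZMod p) p]; exact hcop) (fun g x y => hbinv g x y) _ ⊤ le_rfl
      (fun _ _ _ => Submodule.mem_top)
      (fun x _ h => hbnd x fun y => h y Submodule.mem_top)
  have hc : IsCompl U₁ W := IsCompl.of_eq h1 h2
  -- the submodule on which the symmetric form is used
  let W' : Submodule (ZMod p) U := if p = 2 then ⊥ else W
  have hW' : ∀ g : C, ∀ w ∈ W', g • w ∈ W' := by
    intro g w hw
    by_cases hp2 : p = 2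
    · simp only [W', if_pos hp2, Submodule.mem_bot] at hw ⊢
      rw [hw, smul_zero]
    · simp only [W', if_neg hp2] at hw ⊢
      exact hW g w hw
  letI : DistribMulAction C ↥U₁ :=
    { smul := fun g x => ⟨g • x.1, hU₁ g x.1 x.2⟩
      one_smul := fun x => Subtype.ext (one_smul C x.1)
      mul_smul := fun g g' x => Subtype.ext (mul_smul g g' x.1)
      smul_zero := fun g => Subtype.ext (smul_zero g)
      smul_add := fun g x y => Subtype.ext (smul_add g x.1 y.1) }
  letI : DistribMulAction C ↥W' :=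
    { smul := fun g x => ⟨g • x.1, hW' g x.1 x.2⟩
      one_smul := fun x => Subtype.ext (one_smul C x.1)
      mul_smul := fun g g' x => Subtype.ext (mul_smul g g' x.1)
      smul_zero := fun g => Subtype.ext (smul_zero g)
      smul_add := fun g x y => Subtype.ext (smul_add g x.1 y.1) }
  haveI := Fintype.ofFinite ↥W'
  let A' : ↥U₁ →+ ↥U₁ →+ ZMod p :=
    AddMonoidHom.mk' (fun x => (A x.1).toAddMonoidHom.comp U₁.subtype.toAddMonoidHom)
      (fun x x' => by ext y; simp)
  let B' : ↥W' →+ ↥W' →+ ZMod p :=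
    AddMonoidHom.mk' (fun x => (S x.1).toAddMonoidHom.comp W'.subtype.toAddMonoidHom)
      (fun x x' => by ext y; simp)
  have hBnd : ∀ x, (∀ y, B' x y + B' x y = 0) → x = 0 := by
    intro x hx
    by_cases hp2 : p = 2
    · have := x.2
      simp only [W', if_pos hp2, Submodule.mem_bot] at this
      exact Subtype.ext this
    · have hxW : x.1 ∈ W := by simpa only [W', if_neg hp2] using x.2
      refine Subtype.ext (hSnd x.1 hxW fun y hy => ?_)
      have h3 : S x.1 y + S x.1 y = 0 := hx ⟨y, by simpa only [W', if_neg hp2] using hy⟩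
      rw [← two_mul, mul_eq_zero] at h3
      refine h3.resolve_left fun e => hp2 ?_
      have := (ZMod.natCast_eq_zero_iff 2 p).1 (by exact_mod_cast e)
      exact (Nat.prime_dvd_prime_iff_eq hp Nat.prime_two).1 this
  let e : (↥U₁ × ↥W) ≃ₗ[ZMod p] U := U₁.prodEquivOfIsCompl W hc
  have hfaith' : ∀ h : C, (∀ x : ↥U₁, h • x = x) → (∀ w : ↥W', h • w = w) → h = 1 := by
    intro h hx hw
    refine hfaith h fun x => ?_
    obtain ⟨⟨a, w⟩, rfl⟩ := e.surjective x
    show h • ((a : U) + w) = (a : U) + w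
    rw [smul_add, show h • (a : U) = a from congrArg Subtype.val (hx a)]
    congr 1
    by_cases hp2 : p = 2
    · exact htriv hp2 h w.1 w.2
    · exact congrArg Subtype.val (hw ⟨w.1, by simpa only [W', if_neg hp2] using w.2⟩)
  obtain ⟨f, hf⟩ := exists_good hcop A' (fun x => hAalt x.1)
    (fun g x y => hAinv g x.1 x.2 y.1 y.2)
    (fun x hx => Subtype.ext (hAnd x.1 x.2 fun y hy => hx ⟨y, hy⟩))
    B' (fun x y => hSsymm x.1 y.1) hBnd
    (fun g x y => by
      by_cases hp2 : p = 2
      · have hx := x.2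
        simp only [W', if_pos hp2, Submodule.mem_bot] at hx
        show S (g • x.1) (g • y.1) = S x.1 y.1
        rw [hx, smul_zero, map_zero, LinearMap.zero_apply, LinearMap.zero_apply]
      · exact hSinv g x.1 (by simpa only [W', if_neg hp2] using x.2) y.1
          (by simpa only [W', if_neg hp2] using y.2))
    hfaith'
  refine ⟨f, hf.congr fun h => ?_⟩
  letI : DistribMulAction C ↥W :=
    { smul := fun g x => ⟨g • x.1, hW g x.1 x.2⟩
      one_smul := fun x => Subtype.ext (one_smul C x.1)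
      mul_smul := fun g g' x => Subtype.ext (mul_smul g g' x.1)
      smul_zero := fun g => Subtype.ext (smul_zero g)
      smul_add := fun g x y => Subtype.ext (smul_add g x.1 y.1) }
  have hfixU : Nat.card (Fix.fix (U := U) h) =
      Nat.card (Fix.fix (U := ↥U₁) h) * Nat.card (Fix.fix (U := ↥W) h) := by
    rw [← card_fix_prod]
    refine (Nat.card_congr (e.toEquiv.subtypeEquiv fun x => ?_)).symm
    show h • x = x ↔ h • ((x.1 : U) + x.2) = x.1 + x.2
    rw [← e.injective.eq_iff]
    show (↑(h • x.1) : U) + ↑(h • x.2) = _ ↔ _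
    rw [smul_add]
    rfl
  rw [hfixU, card_fix_prod, Nat.card_prod, ← Nat.card_congr e.toEquiv, Nat.card_prod]
  by_cases hp2 : p = 2
  · have hW'1 : Nat.card ↥W' = 1 := by
      simp only [W', if_pos hp2]
      exact Nat.card_unique
    have hfW' : Nat.card (Fix.fix (U := ↥W') h) = 1 :=
      Nat.eq_one_of_dvd_one (hW'1 ▸ AddSubgroup.card_addSubgroup_dvd_card _)
    have hfW : Nat.card (Fix.fix (U := ↥W) h) = Nat.card ↥W :=
      Nat.card_congr (Equiv.subtypeUnivEquiv fun x => Subtype.ext (htriv hp2 h x.1 x.2))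
    rw [hW'1, hfW', hfW]; ring
  · have heq : W' = W := by simp only [W', if_neg hp2]
    have h3 : Nat.card ↥W' = Nat.card ↥W := by rw [heq]
    have h4 : Nat.card (Fix.fix (U := ↥W') h) = Nat.card (Fix.fix (U := ↥W) h) :=
      Nat.card_congr
        { toFun := fun x => ⟨⟨x.1.1, heq ▸ x.1.2⟩, Subtype.ext (congrArg Subtype.val x.2 :)⟩
          invFun := fun x => ⟨⟨x.1.1, heq.symm ▸ x.1.2⟩, Subtype.ext (congrArg Subtype.val x.2 :)⟩
          left_inv := fun _ => rfl
          right_inv := fun _ => rfl }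
    rw [h3, h4]

end Cfsg.Agent.CharTheory.KGV.RealVector
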