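import Cfsg.Agent.Lib.CharTheory.KGV.Galois
import Cfsg.Agent.Lib.CharTheory.Ito
import Cfsg.Agent.Lib.Blocks.LocalRing
import Cfsg.Agent.Lib.Blocks.Defect
import Cfsg.Agent.BlockCharsA.DefectZeroVanish

/-! Character values at elements of an abelian normal Sylow subgroup. -/

set_option autoImplicit false
set_option linter.style.haveILetI false

namespace Cfsg.Agent.CharTheory.KGV

open Cfsg.Agent.Characters

universe u

variable {X : Type u} [Group X] [Finite X]

theorem cycInt_value {M : ℕ} (hM : 0 < M) {ζ : ℂ} (hζ : IsPrimitiveRoot ζ M)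
    (hXM : Nat.card X ∣ M) (χ : Cfsg.IrrCharacter X) (g : X) : CycInt ζ ((χ : X → ℂ) g) := by
  refine ⟨char_value_isIntegral (irr_isCharacter χ) g, ?_⟩
  haveI : NeZero M := ⟨hM.ne'⟩
  obtain ⟨n, ρ, hρ, e⟩ := χ.2
  obtain ⟨w, hw, h⟩ := exists_rootsOfUnity_sum ρ g
  rw [← e, show ρ.character g = ∑ i, w i from by simpa using h 1]
  refine sum_mem fun i _ => pow_eq_one_mem hζ ?_
  obtain ⟨c, hc⟩ := (orderOf_dvd_natCard g).trans hXM
  rw [hc, pow_mul, hw i, one_pow]

/-- At a `p`-element of an abelian normal subgroup of `p'`-index no irreducible character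
vanishes. -/
theorem irr_ne_zero {p : ℕ} [Fact p.Prime] (V : Subgroup X) [V.Normal] (hidx : ¬ p ∣ V.index)
    (hab : ∀ a ∈ V, ∀ b ∈ V, a * b = b * a) (hV : IsPGroup p V) (χ : Cfsg.IrrCharacter X) {v : X}
    (hv : v ∈ V) : (χ : X → ℂ) v ≠ 0 := by
  obtain ⟨M, hM⟩ := BlockCharsA.DefectZeroVanish.exists_modular (Fact.out : p.Prime)
  obtain ⟨d, hd, hdvd⟩ := CharTheory.Ito.degree_dvd_index_abelian V hab χ.2
  obtain ⟨n, ρ, hρ, e⟩ := χ.2
  obtain ⟨w, hw, h⟩ := exists_rootsOfUnity_sum ρ v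
  obtain ⟨k, hk⟩ := IsPGroup.iff_orderOf.1 hV ⟨v, hv⟩
  rw [Subgroup.orderOf_mk] at hk
  have hcong : Blocks.Cong M ((χ : X → ℂ) v) ((χ : X → ℂ) 1) := by
    rw [← e]
    have h1 : ρ.character v = ∑ i, w i := by simpa using h 1
    have h0 : ρ.character 1 = ∑ i, (w i) ^ 0 := by simpa using h 0
    rw [h1, h0]
    refine Blocks.cong_sum hM fun i _ => ?_
    rw [pow_zero]
    exact Blocks.cong_one_of_pow_prime_pow hM (k := k) (by rw [← hk, hw i])
  intro h0
  rw [h0, hd] at hcong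
  exact hidx (((Blocks.ideal_natCast_iff hM d).1
    (Blocks.cong_zero_iff.1 (Blocks.cong_symm hM hcong))).trans hdvd)

end Cfsg.Agent.CharTheory.KGV
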