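import Cfsg.Agent.Lib.CharTheory.KGV.Weights

/-! A list of kernels from an invariant series of an abelian normal subgroup. -/

set_option autoImplicit false
set_option linter.style.haveILetI false

namespace Cfsg.Agent.CharTheory.KGV

open scoped Classical

universe u

variable {X : Type u} [Group X] [Finite X] {C : Type u} [CommGroup C] [Finite C]

/-- A coprime abelian group acting on an abelian group `W` has a list of kernels whose form is
bounded by `|W|` and which meet in the centralizer. -/
theorem exists_list (φ : C →* X) (V : Subgroup X)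
    (hab : ∀ a ∈ V, ∀ b ∈ V, a * b = b * a)
    (hcop : (Nat.card C).Coprime (Nat.card V)) :
    ∀ (n : ℕ) (W : Subgroup X), W ≤ V → Nat.card W ≤ n →
      (∀ c, ∀ w ∈ W, φ c * w * (φ c)⁻¹ ∈ W) →
      ∃ l : List (Subgroup C),
        (∀ c, eta l c * Nat.card ↥(W ⊓ Subgroup.centralizer ({φ c} : Set X)) ≤ Nat.card W) ∧
        (∀ c, (∀ K ∈ l, c ∈ K) → ∀ w ∈ W, φ c * w * (φ c)⁻¹ = w) := by
  intro n
  induction n with
  | zero => intro W _ hW; exact absurd hW (Nat.not_le.2 Nat.card_pos)
  | succ n ih =>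
    intro W hWV hWn hW
    by_cases hW1 : W = ⊥
    · refine ⟨[], fun c => ?_, fun c _ w hw => ?_⟩
      · simp only [eta, one_mul]
        exact Subgroup.card_le_of_le inf_le_left
      · rw [hW1, Subgroup.mem_bot] at hw
        simp [hw]
    -- a maximal invariant proper subgroup
    obtain ⟨W', -, ⟨hW'W, hW'⟩, hmax⟩ := (Set.toFinite
      {U : Subgroup X | U < W ∧ ∀ c, ∀ w ∈ U, φ c * w * (φ c)⁻¹ ∈ U}).exists_le_maximal
      (a := (⊥ : Subgroup X)) ⟨bot_lt_iff_ne_bot.2 hW1, fun c w hw => by
        rw [Subgroup.mem_bot] at hw; simp [hw]⟩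
    have hlt : Nat.card W' < Nat.card W := by
      refine lt_of_le_of_ne (Subgroup.card_le_of_le hW'W.le) fun e => hW'W.ne ?_
      exact Subgroup.eq_of_le_of_card_ge hW'W.le e.ge
    obtain ⟨l, hl, hlK⟩ := ih W' (hW'W.le.trans hWV) (by omega) hW'
    -- the elements fixed modulo `W'`
    have hfix : ∀ c : C, ∀ u ∈ W, u⁻¹ * (φ c * u * (φ c)⁻¹) ∈ W' →
        u ∈ W' ∨ ∀ w ∈ W, w⁻¹ * (φ c * w * (φ c)⁻¹) ∈ W' := by
      intro c u hu huc
      let U : Subgroup X :=
        { carrier := {w | w ∈ W ∧ w⁻¹ * (φ c * w * (φ c)⁻¹) ∈ W'}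
          one_mem' := ⟨one_mem _, by simp⟩
          mul_mem' := fun {a b} ha hb => ⟨mul_mem ha.1 hb.1, by
            have e : (a * b)⁻¹ * (φ c * (a * b) * (φ c)⁻¹) =
                (a⁻¹ * (φ c * a * (φ c)⁻¹)) * (b⁻¹ * (φ c * b * (φ c)⁻¹)) := by
              have h1 := hab _ (hW'W.le.trans hWV ha.2) b⁻¹ (inv_mem (hWV hb.1))
              calc (a * b)⁻¹ * (φ c * (a * b) * (φ c)⁻¹)
                  = b⁻¹ * (a⁻¹ * (φ c * a * (φ c)⁻¹)) * (φ c * b * (φ c)⁻¹) := by group
                _ = (a⁻¹ * (φ c * a * (φ c)⁻¹)) * b⁻¹ * (φ c * b * (φ c)⁻¹) := by rw [h1]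
                _ = _ := by group
            rw [e]; exact mul_mem ha.2 hb.2⟩
          inv_mem' := fun {a} ha => ⟨inv_mem ha.1, by
            have h1 := hab a (hWV ha.1) _ (inv_mem (hWV (hW c a ha.1)))
            have e : a⁻¹⁻¹ * (φ c * a⁻¹ * (φ c)⁻¹) = (a⁻¹ * (φ c * a * (φ c)⁻¹))⁻¹ := by
              calc a⁻¹⁻¹ * (φ c * a⁻¹ * (φ c)⁻¹) = a * (φ c * a * (φ c)⁻¹)⁻¹ := by group
                _ = (φ c * a * (φ c)⁻¹)⁻¹ * a := h1
                _ = _ := by group
            rw [e]; exact inv_mem ha.2⟩ }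
      have hU : ∀ d, ∀ w ∈ U, φ d * w * (φ d)⁻¹ ∈ U := by
        intro d w hw
        refine ⟨hW d w hw.1, ?_⟩
        have hcd : φ c * φ d = φ d * φ c := by rw [← map_mul, ← map_mul, mul_comm]
        have e : (φ d * w * (φ d)⁻¹)⁻¹ * (φ c * (φ d * w * (φ d)⁻¹) * (φ c)⁻¹) =
            φ d * (w⁻¹ * (φ c * w * (φ c)⁻¹)) * (φ d)⁻¹ := by
          have hcd' : (φ d)⁻¹ * (φ c)⁻¹ = (φ c)⁻¹ * (φ d)⁻¹ := by
            rw [← mul_inv_rev, ← mul_inv_rev, hcd]
          calc (φ d * w * (φ d)⁻¹)⁻¹ * (φ c * (φ d * w * (φ d)⁻¹) * (φ c)⁻¹)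
              = φ d * w⁻¹ * (φ d)⁻¹ * (φ c * φ d) * w * ((φ d)⁻¹ * (φ c)⁻¹) := by group
            _ = φ d * w⁻¹ * (φ d)⁻¹ * (φ d * φ c) * w * ((φ c)⁻¹ * (φ d)⁻¹) := by rw [hcd, hcd']
            _ = _ := by group
        rw [e]
        exact hW' d _ hw.2
      have hW'U : W' ≤ U := fun w hw => ⟨hW'W.le hw, mul_mem (inv_mem hw) (hW' c w hw)⟩
      by_cases hUW : U < W
      · exact Or.inl (hmax ⟨hUW, hU⟩ hW'U ⟨hu, huc⟩)
      · refine Or.inr fun w hw => ?_
        have hle : U ≤ W := fun x hx => hx.1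
        have : U = W := eq_of_le_of_not_lt hle hUW
        exact (this.ge hw : w ∈ U).2
    let K : Subgroup C :=
      { carrier := {c | ∀ w ∈ W, w⁻¹ * (φ c * w * (φ c)⁻¹) ∈ W'}
        one_mem' := fun w _ => by simp
        mul_mem' := fun {a b} ha hb w hw => by
          have e : w⁻¹ * (φ (a * b) * w * (φ (a * b))⁻¹) =
              (w⁻¹ * (φ b * w * (φ b)⁻¹)) * ((φ b * w * (φ b)⁻¹)⁻¹ *
                (φ a * (φ b * w * (φ b)⁻¹) * (φ a)⁻¹)) := by rw [map_mul]; group
          rw [e]
          exact mul_mem (hb w hw) (ha _ (hW b w hw))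
        inv_mem' := fun {a} ha w hw => by
          have e : w⁻¹ * (φ a⁻¹ * w * (φ a⁻¹)⁻¹) = ((φ a⁻¹ * w * (φ a⁻¹)⁻¹)⁻¹ *
              (φ a * (φ a⁻¹ * w * (φ a⁻¹)⁻¹) * (φ a)⁻¹))⁻¹ := by rw [map_inv]; group
          rw [e]
          exact inv_mem (ha _ (hW a⁻¹ w hw)) }
    refine ⟨K :: l, fun c => ?_, fun c hc => ?_⟩
    · rw [eta]
      by_cases hcK : c ∈ K
      · rw [if_pos hcK, one_mul]
        have h1 : Nat.card ↥(W ⊓ Subgroup.centralizer ({φ c} : Set X)) * Nat.card W' ≤
            Nat.card W * Nat.card ↥(W' ⊓ Subgroup.centralizer ({φ c} : Set X)) := by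
          set A := W ⊓ Subgroup.centralizer ({φ c} : Set X) with hA
          have hinf : W'.subgroupOf A = (W' ⊓ A).subgroupOf A := by
            rw [Subgroup.inf_subgroupOf_right]
          have hcardA := Subgroup.card_mul_index (W'.subgroupOf A)
          have hcardW := Subgroup.card_mul_index (W'.subgroupOf W)
          have e1 : Nat.card ↥(W'.subgroupOf A) =
              Nat.card ↥(W' ⊓ Subgroup.centralizer ({φ c} : Set X)) := by
            rw [hinf, Nat.card_congr (Subgroup.subgroupOfEquivOfLe inf_le_right).toEquiv]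
            have : W' ⊓ A = W' ⊓ Subgroup.centralizer ({φ c} : Set X) := by
              rw [hA, ← inf_assoc, inf_eq_left.2 hW'W.le]
            rw [this]
          have e2 : Nat.card ↥(W'.subgroupOf W) = Nat.card W' :=
            Nat.card_congr (Subgroup.subgroupOfEquivOfLe hW'W.le).toEquiv
          have hle : W'.relIndex A ≤ W'.relIndex W :=
            Subgroup.relIndex_le_of_le_right inf_le_left (Subgroup.index_ne_zero_of_finite)
          rw [← hcardA, ← hcardW, e1, e2]
          simp only [Subgroup.relIndex] at hle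
          calc _ = (Nat.card ↥(W' ⊓ Subgroup.centralizer ({φ c} : Set X)) * Nat.card W') *
                (W'.subgroupOf A).index := by ring
            _ ≤ (Nat.card ↥(W' ⊓ Subgroup.centralizer ({φ c} : Set X)) * Nat.card W') *
                (W'.subgroupOf W).index := Nat.mul_le_mul_left _ hle
            _ = _ := by ring
        refine Nat.le_of_mul_le_mul_right (c := Nat.card W') ?_ Nat.card_pos
        calc _ = eta l c * (Nat.card ↥(W ⊓ Subgroup.centralizer ({φ c} : Set X)) * Nat.card W') := by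
              ring
          _ ≤ eta l c * (Nat.card W * Nat.card ↥(W' ⊓ Subgroup.centralizer ({φ c} : Set X))) :=
              Nat.mul_le_mul_left _ h1
          _ = Nat.card W * (eta l c * Nat.card ↥(W' ⊓ Subgroup.centralizer ({φ c} : Set X))) := by ring
          _ ≤ Nat.card W * Nat.card W' := Nat.mul_le_mul_left _ (hl c)
      · rw [if_neg hcK]
        have hsub : W ⊓ Subgroup.centralizer ({φ c} : Set X) ≤
            W' ⊓ Subgroup.centralizer ({φ c} : Set X) := by
          rintro u ⟨hu, huc⟩
          refine ⟨?_, huc⟩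
          rcases hfix c u hu (by
            rw [← Subgroup.mem_centralizer_singleton_iff.1 huc, mul_inv_cancel_right,
              inv_mul_cancel]
            exact one_mem _) with h | h
          · exact h
          · exact absurd h hcK
        have hK : K.index + 1 ≤ W'.relIndex W := by
          -- a semiregular orbit on the nontrivial cosets
          obtain ⟨u, hu, huW'⟩ := SetLike.exists_of_lt hW'W
          let F : Option (C ⧸ K) → ↥W ⧸ W'.subgroupOf W := fun o =>
            o.elim ((1 : ↥W) : ↥W ⧸ W'.subgroupOf W) (fun q => Quotient.liftOn' q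
              (fun d => ((⟨φ d * u * (φ d)⁻¹, hW d u hu⟩ : ↥W) : ↥W ⧸ W'.subgroupOf W))
              (fun a b hab' => by
                rw [QuotientGroup.leftRel_apply] at hab'
                rw [QuotientGroup.eq, Subgroup.mem_subgroupOf]
                have h1 := hW' a _ (hab' u hu)
                have e : (φ a * u * (φ a)⁻¹)⁻¹ * (φ b * u * (φ b)⁻¹) =
                    φ a * (u⁻¹ * (φ (a⁻¹ * b) * u * (φ (a⁻¹ * b))⁻¹)) * (φ a)⁻¹ := by
                  rw [map_mul, map_inv]; group
                simp only [Subgroup.coe_mul, Subgroup.coe_inv]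
                rw [e]
                exact h1))
          have hF : Function.Injective F := by
            have hne : ∀ d : C, φ d * u * (φ d)⁻¹ ∉ W' := fun d h => huW' (by
              have := hW' d⁻¹ _ h
              simpa [mul_assoc] using this)
            rintro (_ | q) (_ | q') e
            · rfl
            · obtain ⟨d, rfl⟩ := QuotientGroup.mk_surjective q'
              exact absurd (by simpa [F, QuotientGroup.eq, Subgroup.mem_subgroupOf] using e) (hne d)
            · obtain ⟨d, rfl⟩ := QuotientGroup.mk_surjective q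
              exact absurd (by simpa [F, QuotientGroup.eq, Subgroup.mem_subgroupOf] using e.symm) (hne d)
            · obtain ⟨a, rfl⟩ := QuotientGroup.mk_surjective q
              obtain ⟨b, rfl⟩ := QuotientGroup.mk_surjective q'
              replace e := Subgroup.mem_subgroupOf.1 (QuotientGroup.eq.1 (show
                ((⟨φ a * u * (φ a)⁻¹, hW a u hu⟩ : ↥W) : ↥W ⧸ W'.subgroupOf W) =
                  ((⟨φ b * u * (φ b)⁻¹, hW b u hu⟩ : ↥W) : ↥W ⧸ W'.subgroupOf W) from e))
              congr 1
              rw [QuotientGroup.eq]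
              have h1 := hW' a⁻¹ _ e
              have e' : φ a⁻¹ * ((φ a * u * (φ a)⁻¹)⁻¹ * (φ b * u * (φ b)⁻¹)) * (φ a⁻¹)⁻¹ =
                  u⁻¹ * (φ (a⁻¹ * b) * u * (φ (a⁻¹ * b))⁻¹) := by
                rw [map_mul, map_inv]; group
              simp only [Subgroup.coe_mul, Subgroup.coe_inv] at h1
              rw [e'] at h1
              exact (hfix _ u hu h1).resolve_left huW'
          have h1 := Nat.card_le_card_of_injective F hF
          rw [Finite.card_option] at h1
          exact h1
        calc (K.index + 1) * eta l c * Nat.card ↥(W ⊓ Subgroup.centralizer ({φ c} : Set X))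
            ≤ (K.index + 1) * (eta l c * Nat.card ↥(W' ⊓ Subgroup.centralizer ({φ c} : Set X))) := by
              rw [mul_assoc]
              exact Nat.mul_le_mul_left _ (Nat.mul_le_mul_left _ (Subgroup.card_le_of_le hsub))
          _ ≤ W'.relIndex W * Nat.card W' := Nat.mul_le_mul hK (hl c)
          _ = Nat.card W := by
              rw [mul_comm, Subgroup.relIndex]
              conv_rhs => rw [← Subgroup.card_mul_index (W'.subgroupOf W)]
              rw [Nat.card_congr (Subgroup.subgroupOfEquivOfLe hW'W.le).toEquiv]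
    · intro w hw
      have hcK : c ∈ K := hc K (List.mem_cons_self ..)
      have hcl := hlK c fun J hJ => hc J (List.mem_cons_of_mem _ hJ)
      set a := w⁻¹ * (φ c * w * (φ c)⁻¹) with ha
      have haW' : a ∈ W' := hcK w hw
      have hac : φ c * a * (φ c)⁻¹ = a := hcl a haW'
      have hpow : ∀ i : ℕ, φ c ^ i * w * (φ c ^ i)⁻¹ = w * a ^ i := by
        intro i
        induction i with
        | zero => simp
        | succ i hi =>
          calc φ c ^ (i + 1) * w * (φ c ^ (i + 1))⁻¹
              = φ c * (φ c ^ i * w * (φ c ^ i)⁻¹) * (φ c)⁻¹ := by rw [pow_succ']; group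
            _ = φ c * (w * a ^ i) * (φ c)⁻¹ := by rw [hi]
            _ = (φ c * w * (φ c)⁻¹) * (φ c * a * (φ c)⁻¹) ^ i := by rw [conj_pow]; group
            _ = (w * a) * a ^ i := by rw [hac, show φ c * w * (φ c)⁻¹ = w * a by rw [ha]; group]
            _ = w * a ^ (i + 1) := by rw [pow_succ', mul_assoc]
      have h1 : a ^ Nat.card C = 1 := by
        have h := hpow (Nat.card C)
        rw [← map_pow, pow_card_eq_one', map_one] at h
        simpa using h
      have h2 : a ^ Nat.card V = 1 := by
        exact congrArg Subtype.val (pow_card_eq_one' (x := (⟨a, hW'W.le.trans hWV haW'⟩ : V)))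
      have h3 : a = 1 := by
        have := pow_gcd_eq_one.2 ⟨h1, h2⟩
        rwa [hcop, pow_one] at this
      rw [ha] at h3
      exact (inv_mul_eq_one.1 h3).symm

end Cfsg.Agent.CharTheory.KGV
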