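import Mathlib

/-! Fixed points and displacements of an element of order prime to `p`. -/

set_option autoImplicit false
set_option linter.unusedSectionVars false

namespace Cfsg.Agent.CharTheory.KGV.Fix

variable {p : ℕ} [Fact p.Prime] {C U : Type*} [Group C] [Finite C] [AddCommGroup U]
  [DistribMulAction C U]

theorem nsmul_congr (hU : ∀ u : U, p • u = 0) {a b : ℕ} (h : (a : ZMod p) = b) (u : U) :
    a • u = b • u := by
  rw [ZMod.natCast_eq_natCast_iff'] at h
  rw [← Nat.mod_add_div a p, ← Nat.mod_add_div b p, h, add_nsmul, add_nsmul, mul_nsmul', mul_nsmul',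
    hU, hU]

theorem orderOf_ne_zero (hcop : ¬ p ∣ Nat.card C) (h : C) : (orderOf h : ZMod p) ≠ 0 := fun e =>
  hcop (((ZMod.natCast_eq_zero_iff _ _).1 e).trans (orderOf_dvd_natCard h))

/-- The fixed points of `h`. -/
def fix (h : C) : AddSubgroup U where
  carrier := {u | h • u = u}
  zero_mem' := smul_zero h
  add_mem' := fun {a b} ha hb => by simp only [Set.mem_ofPred_eq, smul_add] at *; rw [ha, hb]
  neg_mem' := fun {a} ha => by simp only [Set.mem_ofPred_eq, smul_neg] at *; rw [ha]

theorem mem_fix {h : C} {u : U} : u ∈ fix h ↔ h • u = u := Iff.rfl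

/-- The displacement by `h`. -/
def move (h : C) : U →+ U where
  toFun u := u - h • u
  map_zero' := by simp
  map_add' a b := by rw [smul_add]; abel

theorem move_apply (h : C) (u : U) : move h u = u - h • u := rfl

theorem pow_fixed {h : C} {u : U} (hu : h • u = u) (i : ℕ) : h ^ i • u = u := by
  induction i with
  | zero => rw [pow_zero, one_smul]
  | succ i ih => rw [pow_succ, mul_smul, hu, ih]

variable (p) in
/-- The projection on the fixed points. -/
noncomputable def proj (h : C) : U →+ U where
  toFun u := ((orderOf h : ZMod p)⁻¹).val • ∑ i ∈ Finset.range (orderOf h), h ^ i • u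
  map_zero' := by simp
  map_add' a b := by simp only [smul_add, Finset.sum_add_distrib, nsmul_add]

theorem proj_apply (h : C) (u : U) :
    proj p h u = ((orderOf h : ZMod p)⁻¹).val • ∑ i ∈ Finset.range (orderOf h), h ^ i • u := rfl

theorem sum_pow_move (h : C) (u : U) :
    ∑ i ∈ Finset.range (orderOf h), h ^ i • (u - h • u) = 0 := by
  simp only [smul_sub, ← mul_smul, ← pow_succ]
  rw [Finset.sum_range_sub' (fun i => h ^ i • u), pow_zero, pow_orderOf_eq_one, sub_self]

theorem proj_move (h : C) (u : U) : proj p h (move h u) = 0 := by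
  rw [proj_apply, move_apply, sum_pow_move, smul_zero]

theorem proj_mem (h : C) (u : U) : h • proj p h u = proj p h u := by
  rw [proj_apply, smul_comm h, Finset.smul_sum]
  congr 1
  have := sum_pow_move h u
  simp only [smul_sub, Finset.sum_sub_distrib, sub_eq_zero] at this
  rw [this]
  exact Finset.sum_congr rfl fun i _ => by rw [← mul_smul, ← mul_smul, ← pow_succ, ← pow_succ']

theorem proj_fixed (hU : ∀ u : U, p • u = 0) (hcop : ¬ p ∣ Nat.card C) {h : C} {u : U}
    (hu : h • u = u) : proj p h u = u := by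
  rw [proj_apply, Finset.sum_congr rfl fun i _ => pow_fixed hu i, Finset.sum_const,
    Finset.card_range, ← mul_nsmul']
  rw [nsmul_congr hU (b := 1) (by
    push_cast
    rw [ZMod.natCast_zmod_val, inv_mul_cancel₀ (orderOf_ne_zero hcop h)]), one_nsmul]

theorem sub_proj_mem (hU : ∀ u : U, p • u = 0) (hcop : ¬ p ∣ Nat.card C) (h : C) (u : U) :
    u - proj p h u ∈ (move (U := U) h).range := by
  have hi : ∀ i : ℕ, u - h ^ i • u ∈ (move (U := U) h).range := by
    intro i
    induction i with
    | zero => rw [pow_zero, one_smul, sub_self]; exact zero_mem _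
    | succ i ih =>
      have : u - h ^ (i + 1) • u = (u - h ^ i • u) + move h (h ^ i • u) := by
        rw [move_apply, ← mul_smul, ← pow_succ']; abel
      rw [this]
      exact add_mem ih ⟨_, rfl⟩
  set k := orderOf h
  set s := ((k : ZMod p)⁻¹).val
  have h1 : (s * k) • u = u := by
    rw [nsmul_congr hU (b := 1) (by
      push_cast
      rw [ZMod.natCast_zmod_val, inv_mul_cancel₀ (orderOf_ne_zero hcop h)]), one_nsmul]
  have h2 : s • ∑ i ∈ Finset.range k, (u - h ^ i • u) = u - proj p h u := by
    rw [Finset.sum_sub_distrib, Finset.sum_const, Finset.card_range, nsmul_sub, ← mul_nsmul', h1,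
      proj_apply]
  rw [← h2]
  exact nsmul_mem (sum_mem fun i _ => hi i) _

theorem proj_eq_zero_iff (hU : ∀ u : U, p • u = 0) (hcop : ¬ p ∣ Nat.card C) (h : C) (u : U) :
    proj p h u = 0 ↔ u ∈ (move (U := U) h).range := by
  refine ⟨fun e => ?_, fun ⟨v, hv⟩ => hv ▸ proj_move h v⟩
  have := sub_proj_mem hU hcop h u
  rwa [e, sub_zero] at this

variable (p) in
theorem invariant_proj {R : Type*} [AddCommGroup R] (hU : ∀ u : U, p • u = 0)
    (hcop : ¬ p ∣ Nat.card C) (h : C) {u : U} (hu : h • u = u) (B : U →+ U →+ R)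
    (hB : ∀ x y, B (h • x) (h • y) = B x y) (v : U) : B (proj p h v) u = B v u := by
  have hz : ∀ x, x ∈ (move (U := U) h).range → B x u = 0 := by
    rintro _ ⟨w, rfl⟩
    rw [move_apply, map_sub, AddMonoidHom.sub_apply]
    conv_lhs => arg 2; rw [← hu, hB]
    rw [sub_self]
  have := hz _ (sub_proj_mem hU hcop h v)
  rw [map_sub, AddMonoidHom.sub_apply, sub_eq_zero] at this
  exact this.symm

/-- A group is the sum of the fixed points and the displacements. -/
noncomputable def split (hU : ∀ u : U, p • u = 0) (hcop : ¬ p ∣ Nat.card C) (h : C) :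
    (fix (U := U) h) × (move (U := U) h).range ≃ U where
  toFun x := x.1.1 + x.2.1
  invFun u := (⟨proj p h u, proj_mem h u⟩, ⟨u - proj p h u, sub_proj_mem hU hcop h u⟩)
  left_inv := fun x => by
    have e : proj p h (x.1.1 + x.2.1) = x.1.1 := by
      rw [map_add, proj_fixed hU hcop x.1.2, (proj_eq_zero_iff hU hcop h _).2 x.2.2, add_zero]
    refine Prod.ext (Subtype.ext e) (Subtype.ext ?_)
    show x.1.1 + x.2.1 - proj p h (x.1.1 + x.2.1) = x.2.1
    rw [e, add_sub_cancel_left]
  right_inv := fun u => add_sub_cancel _ _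

theorem card_fix_mul (hU : ∀ u : U, p • u = 0) (hcop : ¬ p ∣ Nat.card C) (h : C) :
    Nat.card (fix (U := U) h) * Nat.card (move (U := U) h).range = Nat.card U := by
  rw [← Nat.card_prod, Nat.card_congr (split hU hcop h)]

end Cfsg.Agent.CharTheory.KGV.Fix
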