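import Mathlib

/-! Central extensions of an elementary abelian group by a bilinear cocycle. -/

set_option autoImplicit false
set_option linter.unusedSectionVars false

namespace Cfsg.Agent.CharTheory.KGV.Heisenberg

universe u

variable {p : ℕ} [Fact p.Prime] {U : Type u} [AddCommGroup U]

/-- The extension of `U` by `ZMod p` with the cocycle `c`. -/
@[ext]
structure Heis (c : U →+ U →+ ZMod p) where
  /-- the component in `U` -/
  u : U
  /-- the central component -/
  z : ZMod p

variable {c : U →+ U →+ ZMod p}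

instance : Mul (Heis c) := ⟨fun x y => ⟨x.u + y.u, x.z + y.z + c x.u y.u⟩⟩
instance : One (Heis c) := ⟨⟨0, 0⟩⟩
instance : Inv (Heis c) := ⟨fun x => ⟨-x.u, -x.z + c x.u x.u⟩⟩

theorem mul_u (x y : Heis c) : (x * y).u = x.u + y.u := rfl
theorem mul_z (x y : Heis c) : (x * y).z = x.z + y.z + c x.u y.u := rfl
theorem one_u : (1 : Heis c).u = 0 := rfl
theorem one_z : (1 : Heis c).z = 0 := rfl
theorem inv_u (x : Heis c) : x⁻¹.u = -x.u := rfl
theorem inv_z (x : Heis c) : x⁻¹.z = -x.z + c x.u x.u := rfl

instance : Group (Heis c) :=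
  Group.ofLeftAxioms
    (fun x y w => by
      ext
      · exact add_assoc _ _ _
      · simp only [mul_z, mul_u, map_add, AddMonoidHom.add_apply]; ring)
    (fun x => by
      ext
      · exact zero_add _
      · simp [mul_z, one_u, one_z])
    (fun x => by
      ext
      · exact neg_add_cancel _
      · simp only [mul_z, inv_u, inv_z, map_neg, AddMonoidHom.neg_apply, one_z]; ring)

/-- The underlying pairs. -/
def equivProd (c : U →+ U →+ ZMod p) : Heis c ≃ U × ZMod p where
  toFun x := (x.u, x.z)
  invFun x := ⟨x.1, x.2⟩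
  left_inv _ := rfl
  right_inv _ := rfl

instance [Finite U] : Finite (Heis c) := Finite.of_equiv _ (equivProd c).symm

theorem card_heis [Finite U] (c : U →+ U →+ ZMod p) :
    Nat.card (Heis c) = Nat.card U * p := by
  rw [Nat.card_congr (equivProd c), Nat.card_prod, Nat.card_zmod]

variable (c) in
/-- The central elements. -/
def cen (t : ZMod p) : Heis c := ⟨0, t⟩

theorem cen_mem_center (t : ZMod p) : cen c t ∈ Subgroup.center (Heis c) :=
  Subgroup.mem_center_iff.2 fun g => by
    ext
    · simp [mul_u, cen]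
    · simp [mul_z, cen, add_comm]

theorem cen_pow (k : ℕ) : cen c 1 ^ k = cen c (k : ZMod p) := by
  induction k with
  | zero => rw [pow_zero]; ext <;> simp [cen, one_u, one_z]
  | succ k ih => rw [pow_succ, ih]; ext <;> simp [cen, mul_u, mul_z]

theorem eq_mul_cen (x : Heis c) : x = ⟨x.u, 0⟩ * cen c x.z := by
  ext <;> simp [cen, mul_u, mul_z]

theorem conj_eq (x : Heis c) (v : U) :
    (⟨v, 0⟩ : Heis c) * x * (⟨v, 0⟩ : Heis c)⁻¹ = x * cen c (c v x.u - c x.u v) := by
  ext
  · simp only [mul_u, inv_u, cen, add_zero]; abel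
  · simp only [mul_z, mul_u, inv_u, inv_z, cen, map_neg, map_add, map_zero,
      AddMonoidHom.add_apply, zero_add, add_zero, neg_zero]
    ring

variable {C : Type*} [Group C] [DistribMulAction C U]

/-- Automorphisms from isometries of the cocycle. -/
def act (hc : ∀ (g : C) x y, c (g • x) (g • y) = c x y) : C →* MulAut (Heis c) where
  toFun g :=
    { toFun := fun x => ⟨g • x.u, x.z⟩
      invFun := fun x => ⟨g⁻¹ • x.u, x.z⟩
      left_inv := fun x => by ext <;> simp
      right_inv := fun x => by ext <;> simp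
      map_mul' := fun x y => by ext <;> simp [mul_u, mul_z, smul_add, hc] }
  map_one' := by ext <;> simp
  map_mul' g g' := by ext <;> simp [mul_smul]

theorem act_u (hc : ∀ (g : C) x y, c (g • x) (g • y) = c x y) (g : C) (x : Heis c) :
    (act hc g x).u = g • x.u := rfl

theorem act_z (hc : ∀ (g : C) x y, c (g • x) (g • y) = c x y) (g : C) (x : Heis c) :
    (act hc g x).z = x.z := rfl

theorem exists_cocycle [Finite U] [Finite C] [Module (ZMod p) U] (hcop : ¬ p ∣ Nat.card C)
    (A : U →+ U →+ ZMod p) (halt : ∀ x, A x x = 0)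
    (hinv : ∀ (g : C) x y, A (g • x) (g • y) = A x y) :
    ∃ c : U →+ U →+ ZMod p, (∀ (g : C) x y, c (g • x) (g • y) = c x y) ∧
      ∀ x y, c x y - c y x = A x y := by
  classical
  haveI := Fintype.ofFinite C
  let b := Module.finBasis (ZMod p) U
  set r := Module.finrank (ZMod p) U
  let c₀ : U → U → ZMod p := fun x y =>
    ∑ i : Fin r, ∑ j : Fin r, if i < j then b.repr x i * b.repr y j * A (b i) (b j) else 0
  have hA : ∀ x y, A x y = ∑ i : Fin r, ∑ j : Fin r, b.repr x i * b.repr y j * A (b i) (b j) := by
    intro x y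
    conv_lhs => rw [← b.sum_repr x, ← b.sum_repr y]
    simp only [map_sum, AddMonoidHom.finsetSum_apply]
    rw [Finset.sum_comm]
    refine Finset.sum_congr rfl fun i _ => Finset.sum_congr rfl fun j _ => ?_
    rw [ZMod.map_smul A, AddMonoidHom.smul_apply, ZMod.map_smul (A (b i)), smul_eq_mul, smul_eq_mul]
    ring
  have hanti : ∀ x y, A y x = - A x y := by
    intro x y
    have := halt (x + y)
    simp only [map_add, AddMonoidHom.add_apply, halt, zero_add, add_zero] at this
    linear_combination this
  have hskew : ∀ x y, c₀ x y - c₀ y x = A x y := by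
    intro x y
    have h1 : c₀ y x = ∑ i : Fin r, ∑ j : Fin r,
        if j < i then -(b.repr x i * b.repr y j * A (b i) (b j)) else 0 := by
      simp only [c₀]
      rw [Finset.sum_comm]
      refine Finset.sum_congr rfl fun i _ => Finset.sum_congr rfl fun j _ => if_congr Iff.rfl ?_ rfl
      rw [hanti (b i) (b j)]; ring
    rw [h1, hA]
    simp only [c₀, ← Finset.sum_sub_distrib]
    refine Finset.sum_congr rfl fun i _ => Finset.sum_congr rfl fun j _ => ?_
    rcases lt_trichotomy i j with h | h | h
    · rw [if_pos h, if_neg h.le.not_gt, sub_zero]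
    · subst h; simp [halt]
    · rw [if_neg h.le.not_gt, if_pos h, zero_sub, neg_neg]
  set K : ZMod p := (Nat.card C : ZMod p) with hK
  have hK0 : K ≠ 0 := fun e => hcop ((ZMod.natCast_eq_zero_iff _ _).1 e)
  let cf : U → U → ZMod p := fun x y => K⁻¹ * ∑ g : C, c₀ (g • x) (g • y)
  have hl : ∀ x x' y, cf (x + x') y = cf x y + cf x' y := by
    intro x x' y
    simp only [cf, c₀, smul_add, map_add, Finsupp.add_apply]
    rw [← mul_add, ← Finset.sum_add_distrib]
    congr 1
    refine Finset.sum_congr rfl fun g _ => ?_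
    rw [← Finset.sum_add_distrib]
    refine Finset.sum_congr rfl fun i _ => ?_
    rw [← Finset.sum_add_distrib]
    exact Finset.sum_congr rfl fun j _ => by split_ifs <;> ring
  have hr : ∀ x y y', cf x (y + y') = cf x y + cf x y' := by
    intro x y y'
    simp only [cf, c₀, smul_add, map_add, Finsupp.add_apply]
    rw [← mul_add, ← Finset.sum_add_distrib]
    congr 1
    refine Finset.sum_congr rfl fun g _ => ?_
    rw [← Finset.sum_add_distrib]
    refine Finset.sum_congr rfl fun i _ => ?_
    rw [← Finset.sum_add_distrib]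
    exact Finset.sum_congr rfl fun j _ => by split_ifs <;> ring
  refine ⟨AddMonoidHom.mk' (fun x => AddMonoidHom.mk' (cf x) (hr x))
    (fun x x' => AddMonoidHom.ext fun y => hl x x' y), fun g x y => ?_, fun x y => ?_⟩
  · show cf (g • x) (g • y) = cf x y
    simp only [cf]
    congr 1
    rw [← Equiv.sum_comp (Equiv.mulRight g⁻¹)]
    exact Finset.sum_congr rfl fun h _ => by
      simp [← mul_smul, mul_assoc]
  · show cf x y - cf y x = A x y
    simp only [cf]
    rw [← mul_sub, ← Finset.sum_sub_distrib, Finset.sum_congr rfl fun g _ => hskew _ _,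
      Finset.sum_congr rfl fun g _ => hinv g x y, Finset.sum_const, Finset.card_univ, nsmul_eq_mul,
      ← Nat.card_eq_fintype_card, ← hK, ← mul_assoc, inv_mul_cancel₀ hK0, one_mul]

end Cfsg.Agent.CharTheory.KGV.Heisenberg
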