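import Cfsg.Agent.Lib.CharTheory.KGV.Values
import Cfsg.Agent.Lib.CharTheory.Extraspecial

/-! Integrality of coefficients of class functions of order-prime-to-`p` groups. -/

set_option autoImplicit false
set_option linter.unusedSectionVars false
set_option linter.style.haveILetI false

namespace Cfsg.Agent.CharTheory.KGV.Integrality

open Cfsg.Agent.Characters
open scoped ComplexConjugate

universe u

variable {C : Type u} [Group C] [Fintype C]

theorem isIntegral_natCast (n : ℕ) : IsIntegral ℤ (n : ℂ) := by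
  simpa using (isIntegral_algebraMap (R := ℤ) (A := ℂ) (x := (n : ℤ)))

/-- Weighted permutation sums have integral coefficients. -/
theorem sum_fixed_isIntegral {Y : Type*} [Fintype Y] [DecidableEq Y] [MulAction C Y] (w : Y → ℂ)
    (hw : ∀ y, IsIntegral ℤ (w y)) (hinv : ∀ (c : C) y, w (c • y) = w y) {θ : C → ℂ}
    (hθ : Cfsg.IsCharacter C θ) :
    IsIntegral ℤ ((Nat.card C : ℂ)⁻¹ * ∑ h : C, θ h * ∑ y : Y, if h • y = y then w y else 0) := by
  classical
  -- the multiplicity of the principal character in the restriction to a point stabilizer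
  let T : Y → ℂ := fun y => ∑ h : C, if h • y = y then θ h else 0
  have hT : ∀ y, ∃ k : ℕ, T y = (Nat.card (MulAction.stabilizer C y) : ℂ) * k := by
    intro y
    obtain ⟨k, hk⟩ := classInner_char_nat (isCharacter_restrict (MulAction.stabilizer C y) hθ)
      (isCharacter_one (G := MulAction.stabilizer C y))
    refine ⟨k, ?_⟩
    rw [← hk, classInner_def, ← mul_assoc, mul_inv_cancel₀ (Nat.cast_ne_zero.2 Nat.card_pos.ne'),
      one_mul]
    simp only [map_one, mul_one, T]
    rw [← Finset.sum_filter]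
    exact Finset.sum_subtype _ (p := fun h => h ∈ MulAction.stabilizer C y) (fun h => by simp)
      θ
  have hTinv : ∀ (c : C) y, T (c • y) = T y := by
    intro c y
    simp only [T]
    rw [← Equiv.sum_comp (MulAut.conj c).toEquiv]
    refine Finset.sum_congr rfl fun h _ => if_congr ?_ (char_isClassFunction hθ h c) rfl
    show (c * h * c⁻¹) • c • y = c • y ↔ h • y = y
    rw [mul_smul, mul_smul, inv_smul_smul, smul_left_cancel_iff]
  choose k hk using hT
  let e := fun y : Y => (Quotient.mk (MulAction.orbitRel C Y) y)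
  haveI := Fintype.ofFinite (MulAction.orbitRel.Quotient C Y)
  have hswap : ∑ h : C, θ h * ∑ y : Y, (if h • y = y then w y else 0) = ∑ y : Y, w y * T y := by
    simp only [Finset.mul_sum, T]
    rw [Finset.sum_comm]
    exact Finset.sum_congr rfl fun y _ => Finset.sum_congr rfl fun h _ => by split_ifs <;> ring
  rw [hswap, Finset.mul_sum, ← Finset.sum_fiberwise Finset.univ e]
  refine IsIntegral.sum _ fun o _ => ?_
  obtain ⟨y₀, rfl⟩ := Quotient.mk_surjective o
  have hconst : ∀ y ∈ Finset.univ.filter (fun y => e y = e y₀),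
      (Nat.card C : ℂ)⁻¹ * (w y * T y) = (Nat.card C : ℂ)⁻¹ * (w y₀ * T y₀) := by
    intro y hy
    obtain ⟨c, rfl⟩ := Quotient.exact (Finset.mem_filter.1 hy).2
    rw [hinv, hTinv]
  rw [Finset.sum_congr rfl hconst, Finset.sum_const, nsmul_eq_mul, hk]
  have horb : (Finset.univ.filter fun y => e y = e y₀).card * Nat.card (MulAction.stabilizer C y₀) =
      Nat.card C := by
    rw [show (Finset.univ.filter fun y => e y = e y₀).card = Nat.card (MulAction.orbit C y₀) from ?_]
    · rw [Nat.card_congr (MulAction.orbitEquivQuotientStabilizer C y₀), mul_comm]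
      exact Subgroup.card_mul_index _
    · rw [← Fintype.card_subtype, ← Nat.card_eq_fintype_card]
      exact Nat.card_congr (Equiv.subtypeEquivRight fun y => Quotient.eq.trans Iff.rfl)
  rw [show ((Finset.univ.filter fun y => e y = e y₀).card : ℂ) * ((Nat.card C : ℂ)⁻¹ *
      (w y₀ * ((Nat.card (MulAction.stabilizer C y₀) : ℂ) * (k y₀ : ℂ)))) =
      (Nat.card C : ℂ)⁻¹ * ((((Finset.univ.filter fun y => e y = e y₀).card *
        Nat.card (MulAction.stabilizer C y₀) : ℕ) : ℂ)) * (w y₀ * (k y₀ : ℂ)) by push_cast; ring,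
    horb, inv_mul_cancel₀ (Nat.cast_ne_zero.2 Nat.card_pos.ne'), one_mul]
  exact (hw y₀).mul (isIntegral_natCast _)

/-- Evaluating the second coordinate at a fixed element gives an integral combination of
characters. -/
theorem exists_slice {Z : Type u} [CommGroup Z] [Fintype Z] {χ : C × Z → ℂ}
    (hχ : Cfsg.IsCharacter (C × Z) χ) (z : Z) :
    ∃ (I : Type u) (_ : Fintype I) (a : I → ℂ) (η : I → C → ℂ), (∀ i, IsIntegral ℤ (a i)) ∧
      (∀ i, Cfsg.IsCharacter C (η i)) ∧ ∀ c, χ (c, z) = ∑ i, a i * η i c := by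
  classical
  haveI := Fintype.ofFinite (Cfsg.IrrCharacter (C × Z))
  obtain ⟨n, hn⟩ := char_eq_sum_nat hχ
  have hcen : ((1 : C), z) ∈ Subgroup.center (C × Z) := Subgroup.mem_center_iff.2 fun g => by
    ext <;> simp [mul_comm]
  have hc : ∀ θ : Cfsg.IrrCharacter (C × Z), ∃ a : ℂ, IsIntegral ℤ a ∧
      ∀ c, (θ : C × Z → ℂ) (c, z) = a * (θ : C × Z → ℂ) (c, 1) := by
    intro θ
    obtain ⟨a, ha⟩ := Extraspecial.central_scalar θ.2 hcen
    refine ⟨a, ?_, fun c => ?_⟩
    · have hpow : ∀ k : ℕ, (θ : C × Z → ℂ) (((1 : C), z) ^ k) = a ^ k * (θ : C × Z → ℂ) 1 := by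
        intro k
        induction k with
        | zero => rw [pow_zero, pow_zero, one_mul]
        | succ k ih => rw [pow_succ, ha, ih, pow_succ]; ring
      have := hpow (orderOf ((1 : C), z))
      rw [pow_orderOf_eq_one] at this
      refine IsIntegral.of_pow (orderOf_pos ((1 : C), z)) ?_
      rw [show a ^ orderOf ((1 : C), z) = 1 from
        mul_right_cancel₀ (irr_one_ne_zero θ.2) (this.symm.trans (one_mul _).symm)]
      exact isIntegral_one
    · rw [← ha, Prod.mk_mul_mk, mul_one, one_mul]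
  choose a ha ha' using hc
  refine ⟨_, inferInstance, fun θ => (n θ : ℂ) * a θ, fun θ c => (θ : C × Z → ℂ) (c, 1),
    fun θ => (isIntegral_natCast _).mul (ha θ),
    fun θ => isCharacter_comp (MonoidHom.inl C Z) (irr_isCharacter θ), fun c => ?_⟩
  have h1 := congrFun hn (c, z)
  simp only [Finset.sum_apply, Pi.smul_apply, smul_eq_mul] at h1
  rw [h1]
  exact Finset.sum_congr rfl fun θ _ => by rw [ha', mul_assoc]

variable {p : ℕ} [Fact p.Prime]

/-- Dividing by a `p`-power valued permutation character keeps the coefficients integral, provided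
the quotient has integral values. -/
theorem quotient_isIntegral (hcop : ¬ p ∣ Nat.card C) {N : ℂ} (hN : IsIntegral ℤ N)
    (d : C → ℕ) (φ f : C → ℂ) (hf : ∀ h, IsIntegral ℤ (f h))
    (hfφ : ∀ h, f h * (p : ℂ) ^ d h = N * φ h)
    (hj : ∀ (j : ℕ) (η : C → ℂ), Cfsg.IsCharacter C η →
      IsIntegral ℤ ((Nat.card C : ℂ)⁻¹ * ∑ h : C, η h * (φ h * ((p : ℂ) ^ d h) ^ j)))
    {η : C → ℂ} (hη : Cfsg.IsCharacter C η) :
    IsIntegral ℤ ((Nat.card C : ℂ)⁻¹ * ∑ h : C, η h * f h) := by
  classical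
  have hp : p.Prime := Fact.out
  set K := Nat.card C with hK
  have hK0 : (K : ℂ) ≠ 0 := Nat.cast_ne_zero.2 Nat.card_pos.ne'
  have hcopK : Nat.Coprime p K := hp.coprime_iff_not_dvd.2 hcop
  set e := K.totient with he
  have he0 : 0 < e := Nat.totient_pos.2 Nat.card_pos
  set B := ∑ h : C, d h with hB
  have hsplit : ∀ h, ∃ a : ℕ, (p : ℂ) ^ (B * e) * f h =
      N * (φ h * ((p : ℂ) ^ d h) ^ (e - 1)) * (1 + (K : ℂ) * a) := by
    intro h
    have hle : d h ≤ B := Finset.single_le_sum (fun _ _ => Nat.zero_le _) (Finset.mem_univ h)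
    have hmod : p ^ ((B - d h) * e) ≡ 1 [MOD K] := by
      rw [mul_comm, pow_mul]
      simpa using (Nat.ModEq.pow_totient hcopK).pow (B - d h)
    obtain ⟨a, ha⟩ := (Nat.modEq_iff_dvd' (Nat.one_le_pow _ _ hp.pos)).1 hmod.symm
    refine ⟨a, ?_⟩
    have ha' : (p : ℂ) ^ ((B - d h) * e) = 1 + (K : ℂ) * a := by
      have := (Nat.sub_eq_iff_eq_add (Nat.one_le_pow _ _ hp.pos)).1 ha
      rw [← Nat.cast_pow, this]
      push_cast
      ring
    rw [← ha', show B * e = (B - d h) * e + (d h * (e - 1) + d h) by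
      rw [← Nat.mul_succ, Nat.succ_eq_add_one, Nat.sub_add_cancel he0, ← Nat.add_mul,
        Nat.sub_add_cancel hle]]
    rw [pow_add, pow_add, ← pow_mul]
    linear_combination (p : ℂ) ^ ((B - d h) * e) * (p : ℂ) ^ (d h * (e - 1)) * hfφ h
  choose a ha using hsplit
  set m := (K : ℂ)⁻¹ * ∑ h : C, η h * f h with hm
  have hfint : ∀ h, IsIntegral ℤ (N * (φ h * ((p : ℂ) ^ d h) ^ (e - 1))) := by
    intro h
    rw [← mul_assoc, ← hfφ]
    exact ((hf h).mul ((isIntegral_natCast p).pow _)).mul (((isIntegral_natCast p).pow _).pow _)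
  have h1 : IsIntegral ℤ ((p : ℂ) ^ (B * e) * m) := by
    have e1 : (p : ℂ) ^ (B * e) * m = N * ((K : ℂ)⁻¹ * ∑ h, η h * (φ h * ((p : ℂ) ^ d h) ^ (e - 1)))
        + ∑ h, η h * (N * (φ h * ((p : ℂ) ^ d h) ^ (e - 1))) * a h := by
      rw [hm, Finset.mul_sum, Finset.mul_sum, Finset.mul_sum, Finset.mul_sum,
        ← Finset.sum_add_distrib]
      refine Finset.sum_congr rfl fun h _ => ?_
      calc (p : ℂ) ^ (B * e) * ((K : ℂ)⁻¹ * (η h * f h))
          = (K : ℂ)⁻¹ * η h * ((p : ℂ) ^ (B * e) * f h) := by ring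
        _ = _ := by rw [ha]; field_simp
    rw [e1]
    exact (hN.mul (hj _ η hη)).add (IsIntegral.sum _ fun h _ =>
      ((char_value_isIntegral hη h).mul (hfint h)).mul (isIntegral_natCast _))
  have h2 : IsIntegral ℤ ((K : ℂ) * m) := by
    rw [hm, mul_inv_cancel_left₀ hK0]
    exact IsIntegral.sum _ fun h _ => (char_value_isIntegral hη h).mul (hf h)
  have hbez : Nat.Coprime (p ^ (B * e)) K := hcopK.pow_left _
  have := Nat.gcd_eq_gcd_ab (p ^ (B * e)) K
  rw [hbez] at this
  have hcast := congrArg (Int.cast : ℤ → ℂ) this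
  push_cast at hcast
  have hm' : m = (Nat.gcdA (p ^ (B * e)) K : ℂ) * ((p : ℂ) ^ (B * e) * m) +
      (Nat.gcdB (p ^ (B * e)) K : ℂ) * ((K : ℂ) * m) := by
    linear_combination m * hcast
  rw [hm']
  exact ((isIntegral_algebraMap (R := ℤ) (A := ℂ)).mul h1).add
    ((isIntegral_algebraMap (R := ℤ) (A := ℂ)).mul h2)

end Cfsg.Agent.CharTheory.KGV.Integrality
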