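import Cfsg.Agent.Lib.CharTheory.KGV.Heisenberg
import Cfsg.Agent.Lib.CharTheory.KGV.Fix
import Cfsg.Agent.Lib.CharTheory.ExtendChar
import Cfsg.Agent.Lib.CharTheory.Extraspecial
import Cfsg.Agent.Lib.CharTheory.KGV.Integrality

/-! The Weil character of a coprime group of symplectic automorphisms. -/

set_option autoImplicit false
set_option linter.unusedSectionVars false
set_option linter.style.haveILetI false

namespace Cfsg.Agent.CharTheory.KGV.Weil

open Cfsg.Agent.Characters Heisenberg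
open scoped ComplexConjugate

universe u

section Central

variable {K : Type u} [Group K] [Finite K]

theorem central_pow {ξ : K → ℂ} {b : ℂ} {z : K} (h : ∀ x, ξ (x * z) = b * ξ x) (k : ℕ) (x : K) :
    ξ (x * z ^ k) = b ^ k * ξ x := by
  induction k with
  | zero => rw [pow_zero, mul_one, pow_zero, one_mul]
  | succ k ih => rw [pow_succ, ← mul_assoc, h, ih, pow_succ]; ring

/-- A class function with a central character vanishes at elements conjugate to a multiple by a
central element acting non-trivially. -/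
theorem vanish {ξ : K → ℂ} (hξ : Cfsg.IsClassFunction K ξ) {b : ℂ} {x y z : K}
    (h : ξ (x * z) = b * ξ x) (hb : b ≠ 1) (hxy : y * x * y⁻¹ = x * z) : ξ x = 0 := by
  have h1 : (b - 1) * ξ x = 0 := by
    rw [sub_mul, one_mul, ← h, ← hxy, hξ, sub_self]
  exact (mul_eq_zero.1 h1).resolve_left (sub_ne_zero.2 hb)

/-- The scalar by which a central element acts. -/
theorem exists_scalar {ξ : K → ℂ} (hξ : Cfsg.IsIrrCharacter K ξ) {z : K}
    (hz : z ∈ Subgroup.center K) :
    ∃ b : ℂ, (∀ x, ξ (x * z) = b * ξ x) ∧ b ^ orderOf z = 1 ∧ IsIntegral ℤ b ∧ b * conj b = 1 := by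
  obtain ⟨b, hb⟩ := Extraspecial.central_scalar hξ hz
  have h1 : b ^ orderOf z = 1 := by
    have := central_pow hb (orderOf z) 1
    rw [pow_orderOf_eq_one, one_mul] at this
    exact mul_right_cancel₀ (irr_one_ne_zero hξ) (this.symm.trans (one_mul _).symm)
  refine ⟨b, hb, h1, IsIntegral.of_pow (orderOf_pos z) (by rw [h1]; exact isIntegral_one), ?_⟩
  rw [Complex.mul_conj', Complex.norm_eq_one_of_pow_eq_one h1 (orderOf_pos z).ne']
  norm_num

/-- The norm of a character supported on the centre. -/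
theorem degree_sq [Fintype K] {ξ : K → ℂ} (hξ : Cfsg.IsIrrCharacter K ξ) (S : Finset K)
    (hS : ∀ x ∈ S, x ∈ Subgroup.center K) (hsupp : ∀ x ∉ S, ξ x = 0) {n : ℕ}
    (hn : ξ 1 = (n : ℂ)) : n * n * S.card = Nat.card K := by
  classical
  have hval : ∀ x ∈ S, ξ x * conj (ξ x) = (n : ℂ) * n := by
    intro x hx
    obtain ⟨b, hb, -, -, hbb⟩ := exists_scalar hξ (hS x hx)
    have := hb 1
    rw [one_mul] at this
    rw [this, map_mul, hn, Complex.conj_natCast]
    linear_combination (n : ℂ) * n * hbb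
  have h := classInner_isIrr_self hξ
  rw [classInner_def, inv_mul_eq_iff_eq_mul₀ natCard_ne_zero, mul_one,
    ← Finset.sum_subset S.subset_univ (fun x _ hx => by rw [hsupp x hx, zero_mul]),
    Finset.sum_congr rfl hval, Finset.sum_const, nsmul_eq_mul] at h
  rw [mul_comm] at h
  exact_mod_cast h

end Central

variable {p : ℕ} [Fact p.Prime] {C U : Type u} [Group C] [Finite C] [AddCommGroup U] [Finite U]
  [DistribMulAction C U] [Module (ZMod p) U]

theorem nsmul_p (u : U) : p • u = 0 := by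
  rw [← Nat.cast_smul_eq_nsmul (ZMod p), ZMod.natCast_self, zero_smul]

theorem exists_card_eq : ∃ k, Nat.card U = p ^ k := by
  refine ⟨Module.finrank (ZMod p) U, ?_⟩
  rw [Module.natCard_eq_pow_finrank (K := ZMod p), Nat.card_zmod]

variable {c : U →+ U →+ ZMod p} (hc : ∀ (g : C) x y, c (g • x) (g • y) = c x y)
  {A : U →+ U →+ ZMod p} (hA : ∀ x y, c x y - c y x = A x y) (hnd : ∀ x, (∀ y, A x y = 0) → x = 0)

include hA hnd

/-- The character of the extension lying over a faithful character of the centre. -/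
theorem exists_heis_char :
    ∃ (θ : Heis c → ℂ) (a : ℂ) (n : ℕ), Cfsg.IsIrrCharacter (Heis c) θ ∧ a ^ p = 1 ∧
      (∀ t : ZMod p, a ^ t.val = 1 → t = 0) ∧ (∀ x, θ (x * cen c 1) = a * θ x) ∧
      (∀ x : Heis c, x.u ≠ 0 → θ x = 0) ∧ θ 1 = ((p ^ n : ℕ) : ℂ) ∧ Nat.card U = p ^ (2 * n) := by
  classical
  haveI := Fintype.ofFinite (Heis c)
  haveI := Fintype.ofFinite (Cfsg.IrrCharacter (Heis c))
  have hp : p.Prime := Fact.out
  have hz : cen c (1 : ZMod p) ≠ 1 := fun e => one_ne_zero (congrArg Heis.z e)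
  obtain ⟨θ, hθ, hne⟩ := exists_irr_ne hz
  obtain ⟨a, ha, -, -, -⟩ := exists_scalar hθ (cen_mem_center (c := c) 1)
  have hzp : cen c (1 : ZMod p) ^ p = 1 := by
    rw [cen_pow, ZMod.natCast_self]; rfl
  have hap : a ^ p = 1 := by
    have := central_pow ha p 1
    rw [hzp, one_mul] at this
    exact mul_right_cancel₀ (irr_one_ne_zero hθ) (this.symm.trans (one_mul _).symm)
  have ha1 : a ≠ 1 := fun e => hne (by
    have := ha 1
    rwa [e, one_mul, one_mul] at this)
  have hord : orderOf a = p := orderOf_eq_prime hap ha1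
  have hval : ∀ t : ZMod p, a ^ t.val = 1 → t = 0 := fun t ht => by
    have h1 := orderOf_dvd_of_pow_eq_one ht
    rw [hord] at h1
    exact (ZMod.val_eq_zero t).1 (Nat.eq_zero_of_dvd_of_lt h1 t.val_lt)
  have hmul : ∀ (x : Heis c) (t : ZMod p), θ (x * cen c t) = a ^ t.val * θ x := fun x t => by
    rw [← central_pow ha, cen_pow, ZMod.natCast_zmod_val]
  have hsupp : ∀ x : Heis c, x.u ≠ 0 → θ x = 0 := by
    intro x hx
    obtain ⟨v, hv⟩ : ∃ v, A x.u v ≠ 0 := by
      by_contra h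
      exact hx (hnd _ (not_exists_not.1 h))
    refine vanish (char_isClassFunction (isCharacter_of_isIrr hθ)) (y := (⟨v, 0⟩ : Heis c))
      (hmul x (c v x.u - c x.u v)) (fun e => hv ?_) (conj_eq x v)
    rw [← hA, ← neg_sub, hval _ e, neg_zero]
  obtain ⟨k, hk0, hk⟩ := irr_one_pos hθ
  have hS : ((Finset.univ : Finset (ZMod p)).image (cen c)).card = p := by
    rw [Finset.card_image_of_injective _ fun s t e => congrArg Heis.z e, Finset.card_univ, ZMod.card]
  have hsq := degree_sq hθ ((Finset.univ : Finset (ZMod p)).image (cen c))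
    (fun x hx => by
      obtain ⟨t, -, rfl⟩ := Finset.mem_image.1 hx
      exact cen_mem_center t)
    (fun x hx => hsupp x fun e => hx (Finset.mem_image.2 ⟨x.z, Finset.mem_univ _, by
      ext <;> simp [cen, e]⟩)) hk
  rw [hS, card_heis] at hsq
  have hkU : k * k = Nat.card U := Nat.eq_of_mul_eq_mul_right hp.pos hsq
  obtain ⟨j, hj⟩ := exists_card_eq (p := p) (U := U)
  obtain ⟨n, -, rfl⟩ := (Nat.dvd_prime_pow hp).1 (hj ▸ Dvd.intro k hkU : k ∣ p ^ j)
  exact ⟨θ, a, n, hθ, hap, hval, ha, hsupp, hk, by rw [← hkU, two_mul, pow_add]⟩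

include hc

theorem exists_weil (hcop : ¬ p ∣ Nat.card C) :
    ∃ (φ : C → ℂ) (n : ℕ), Cfsg.IsCharacter C φ ∧ Nat.card U = p ^ (2 * n) ∧
      ∀ h : C, ∃ (d : ℕ) (e : ℂ), d ≤ n ∧ Nat.card (Fix.fix (U := U) h) = p ^ (2 * d) ∧
        φ h = (p : ℂ) ^ d * e ∧ IsIntegral ℤ e ∧ e * conj e = 1 := by
  classical
  have hp : p.Prime := Fact.out
  obtain ⟨θ, a, n, hθ, hap, hval, ha, hsupp, hθ1, hU⟩ := exists_heis_char hA hnd
  have hmul : ∀ (x : Heis c) (t : ZMod p), θ (x * cen c t) = a ^ t.val * θ x := fun x t => by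
    rw [← central_pow ha, cen_pow, ZMod.natCast_zmod_val]
  haveI : Finite (SemidirectProduct (Heis c) C (act hc)) := Finite.of_equiv _ SemidirectProduct.equivProd.symm
  let il : Heis c →* (SemidirectProduct (Heis c) C (act hc)) := SemidirectProduct.inl
  let ir : C →* (SemidirectProduct (Heis c) C (act hc)) := SemidirectProduct.inr
  let N : Subgroup (SemidirectProduct (Heis c) C (act hc)) := il.range
  haveI hN : N.Normal := by
    show (SemidirectProduct.inl : Heis c →* (SemidirectProduct (Heis c) C (act hc))).range.Normal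
    rw [SemidirectProduct.range_inl_eq_ker_rightHom]
    infer_instance
  let e : Heis c ≃* N := MonoidHom.ofInjective SemidirectProduct.inl_injective
  let θN : N → ℂ := θ ∘ e.symm
  have hθN : Cfsg.IsIrrCharacter N θN := (isIrrCharacter_comp_mulEquiv e.symm).2 hθ
  have hθclass := char_isClassFunction (isCharacter_of_isIrr hθ)
  -- invariance
  have hconj : ∀ (g : (SemidirectProduct (Heis c) C (act hc))) (x : Heis c),
      g * il x * g⁻¹ = il (g.left * act hc g.right x * g.left⁻¹) := by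
    intro g x
    conv_lhs => rw [← SemidirectProduct.inl_left_mul_inr_right g]
    have e1 : il (act hc g.right x) = ir g.right * il x * ir g.right⁻¹ :=
      SemidirectProduct.inl_aut g.right x
    rw [map_mul, map_mul, e1, map_inv, map_inv]
    group
    rfl
  have hact : ∀ (g : C) (x : Heis c), θ (act hc g x) = θ x := by
    intro g x
    by_cases hx : x.u = 0
    · congr 1
      ext
      · rw [act_u, hx, smul_zero]
      · rw [act_z]
    · rw [hsupp x hx, hsupp]
      rwa [act_u, Ne, smul_eq_zero_iff_eq]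
  have hinv : ∀ g : (SemidirectProduct (Heis c) C (act hc)), Clifford.conjBy N g θN = θN := by
    intro g
    funext m
    obtain ⟨x, rfl⟩ := e.surjective m
    rw [Clifford.conjBy_apply]
    show θ (e.symm _) = θ (e.symm (e x))
    have : (⟨g * (e x : (SemidirectProduct (Heis c) C (act hc))) * g⁻¹, hN.conj_mem _ (e x).2 g⟩ : N) =
        e (g.left * act hc g.right x * g.left⁻¹) := Subtype.ext (hconj g x)
    rw [this, e.symm_apply_apply, e.symm_apply_apply, hθclass, hact]
  have hidx : N.index = Nat.card C := by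
    show (SemidirectProduct.inl : Heis c →* (SemidirectProduct (Heis c) C (act hc))).range.index = _
    rw [SemidirectProduct.range_inl_eq_ker_rightHom, Subgroup.index_ker,
      MonoidHom.range_eq_top.2 SemidirectProduct.rightHom_surjective, Subgroup.card_top]
  have hcopp : Nat.Coprime (Nat.card C) p := (hp.coprime_iff_not_dvd.2 hcop).symm
  obtain ⟨μ, hμ, -⟩ := ExtendChar.exists_linear_extension_coprime N
    (ExtendChar.detChar_isLinear (isCharacter_of_isIrr hθN))
    (fun g m => by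
      have h := congrFun (ExtendChar.detChar_comp (MulAut.conjNormal g : N ≃* N).toMonoidHom
        (isCharacter_of_isIrr hθN)) m
      rw [← Clifford.conjBy_eq_comp, hinv, Function.comp] at h
      exact (h.trans (congrArg _ (Subtype.ext (by simp)))).symm)
    (by
      rw [hidx]
      obtain ⟨f, hf⟩ := ExtendChar.exists_hom
        (ExtendChar.detChar_isLinear (isCharacter_of_isIrr hθN)).1
        (ExtendChar.detChar_isLinear (isCharacter_of_isIrr hθN)).2
      refine Nat.Coprime.coprime_dvd_right (orderOf_dvd_of_pow_eq_one (n := Nat.card N)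
        (funext fun m => ?_)) ?_
      · rw [Pi.pow_apply, ← hf, ← Units.val_pow_eq_pow_val, ← map_pow, pow_card_eq_one', map_one,
          Units.val_one, Pi.one_apply]
      · rw [← Nat.card_congr e.toEquiv, card_heis, hU, ← pow_succ]
        exact hcopp.pow_right _)
  obtain ⟨ψ, hψ, hψN⟩ := ExtendChar.exists_extension_det N hθN hinv (d := p ^ n)
    (show θ (e.symm 1) = _ by rw [map_one, hθ1])
    (by rw [hidx]; exact hcopp.pow_right _) μ hμ
  have hψclass := char_isClassFunction (isCharacter_of_isIrr hψ)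
  have hψil : ∀ x : Heis c, ψ (il x) = θ x := fun x => by
    have := hψN (e x)
    rw [show θN (e x) = θ x from congrArg θ (e.symm_apply_apply x)] at this
    exact this
  -- the central scalar
  have hzc : il (cen c 1) ∈ Subgroup.center (SemidirectProduct (Heis c) C (act hc)) := Subgroup.mem_center_iff.2 fun g => by
    have h2 : g * il (cen c 1) * g⁻¹ = il (cen c 1) := by
      rw [hconj]
      congr 1
      have h3 : act hc g.right (cen c 1) = cen c 1 := by
        ext
        · rw [act_u]; exact smul_zero _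
        · rw [act_z]
      rw [h3, Subgroup.mem_center_iff.1 (cen_mem_center 1) g.left, mul_inv_cancel_right]
    exact mul_inv_eq_iff_eq_mul.1 h2
  obtain ⟨b, hb, -, -, -⟩ := exists_scalar hψ hzc
  have hba : b = a := by
    have h1 := hb 1
    rw [one_mul, hψil, ← map_one il, hψil] at h1
    have h2 := ha 1
    rw [one_mul, h1] at h2
    exact mul_right_cancel₀ (irr_one_ne_zero hθ) h2
  subst hba
  refine ⟨fun h => ψ (ir h), n, isCharacter_comp ir (isCharacter_of_isIrr hψ), hU, fun h => ?_⟩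
  -- the centralizer of `h` in the extension
  let K₀ : Subgroup (Heis c) :=
    { carrier := {x | h • x.u = x.u}
      one_mem' := smul_zero h
      mul_mem' := fun {x y} hx hy => by
        show h • (x * y).u = (x * y).u
        rw [mul_u, smul_add, hx, hy]
      inv_mem' := fun {x} hx => by
        show h • (x⁻¹).u = (x⁻¹).u
        rw [inv_u, smul_neg, hx] }
  let Z := Subgroup.zpowers h
  let ι : ↥K₀ × ↥Z →* (SemidirectProduct (Heis c) C (act hc)) := MonoidHom.noncommCoprod (il.comp K₀.subtype) (ir.comp Z.subtype)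
    fun x g => by
      obtain ⟨i, hi⟩ := Subgroup.mem_zpowers_iff.1 g.2
      have hfix : g.1 • x.1.u = x.1.u := by
        rw [← hi]
        exact MulAction.mem_stabilizer_iff.1 (Subgroup.zpow_mem _
          (MulAction.mem_stabilizer_iff.2 x.2) i)
      have hx : act hc g.1 x.1 = x.1 := by
        ext
        · exact hfix
        · rfl
      show il x.1 * ir g.1 = ir g.1 * il x.1
      have := SemidirectProduct.inl_aut (φ := act hc) g.1 x.1
      rw [hx, map_inv] at this
      exact eq_mul_inv_iff_mul_eq.1 this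
  haveI := Fintype.ofFinite ↥Z
  haveI := Fintype.ofFinite (↥K₀ × ↥Z)
  haveI := Fintype.ofFinite (Cfsg.IrrCharacter (↥K₀ × ↥Z))
  obtain ⟨m, hm⟩ := char_eq_sum_nat (isCharacter_comp ι (isCharacter_of_isIrr hψ))
  let z₀ : ↥K₀ × ↥Z := (⟨cen c 1, smul_zero h⟩, 1)
  have hzero : ∀ t : ZMod p, cen c t ∈ K₀ := fun _ => smul_zero h
  have hcenK : ∀ (t : ZMod p) (g : ↥Z),
      ((⟨cen c t, hzero t⟩, g) : ↥K₀ × ↥Z) ∈ Subgroup.center (↥K₀ × ↥Z) := by
    intro t g
    refine Subgroup.mem_center_iff.2 fun y => Prod.ext (Subtype.ext ?_) (mul_comm' _ _)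
    exact Subgroup.mem_center_iff.1 (cen_mem_center t) y.1.1
  have hψι : ∀ x, ψ (ι (x * z₀)) = b * ψ (ι x) := fun x => by
    rw [map_mul, show ι z₀ = il (cen c 1) by simp [ι, z₀], hb]
  -- the constituents
  have hcon : ∀ ξ : Cfsg.IrrCharacter (↥K₀ × ↥Z), m ξ ≠ 0 →
      ∀ x, (ξ : ↥K₀ × ↥Z → ℂ) (x * z₀) = b * (ξ : ↥K₀ × ↥Z → ℂ) x := by
    have hsc : ∀ ξ : Cfsg.IrrCharacter (↥K₀ × ↥Z), ∃ s : ℂ,
        ∀ x, (ξ : ↥K₀ × ↥Z → ℂ) (x * z₀) = s * (ξ : ↥K₀ × ↥Z → ℂ) x := fun ξ => by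
      obtain ⟨s, hs, -⟩ := exists_scalar ξ.2 (hcenK 1 1)
      exact ⟨s, hs⟩
    choose s hs using hsc
    intro ξ hξ x
    have h0 : (∑ η : Cfsg.IrrCharacter (↥K₀ × ↥Z), ((m η : ℂ) * (s η - b)) • (η : ↥K₀ × ↥Z → ℂ)) = 0 := by
      funext y
      have h1 := congrFun hm y
      have h2 := congrFun hm (y * z₀)
      simp only [Function.comp_apply, Finset.sum_apply, Pi.smul_apply, smul_eq_mul, hψι, hs] at h1 h2
      simp only [Finset.sum_apply, Pi.smul_apply, smul_eq_mul, Pi.zero_apply, mul_sub, sub_mul,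
        Finset.sum_sub_distrib]
      rw [h1, Finset.mul_sum] at h2
      refine sub_eq_zero.2 (Eq.trans ?_ (h2.symm.trans ?_))
      · exact Finset.sum_congr rfl fun η _ => by ring
      · exact Finset.sum_congr rfl fun η _ => by ring
    have h3 := classInner_sum_smul_irr (c := fun η : Cfsg.IrrCharacter (↥K₀ × ↥Z) =>
      (m η : ℂ) * (s η - b)) Finset.univ ξ
    rw [h0, classInner_zero_left, if_pos (Finset.mem_univ ξ), eq_comm, mul_eq_zero, Nat.cast_eq_zero,
      sub_eq_zero] at h3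
    rw [hs, h3.resolve_left hξ]
  have hξvanish : ∀ ξ : Cfsg.IrrCharacter (↥K₀ × ↥Z), m ξ ≠ 0 → ∀ x : ↥K₀ × ↥Z, x.1.1.u ≠ 0 →
      (ξ : ↥K₀ × ↥Z → ℂ) x = 0 := by
    intro ξ hξ x hx
    obtain ⟨v, hv, hv0⟩ : ∃ v : U, h • v = v ∧ A v x.1.1.u ≠ 0 := by
      by_contra hne
      push Not at hne
      refine hx (hnd _ fun w => ?_)
      have h1 := Fix.invariant_proj p (nsmul_p (p := p)) hcop h x.1.2 A
        (fun y y' => by rw [← hA, ← hA, hc, hc]) w
      rw [← hA, ← neg_sub, hA, ← h1, hne _ (Fix.proj_mem h w), neg_zero]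
    refine vanish (char_isClassFunction (irr_isCharacter ξ))
      (y := ((⟨⟨v, 0⟩, hv⟩, 1) : ↥K₀ × ↥Z))
      (central_pow (hcon ξ hξ) (A v x.1.1.u).val x) (fun e1 => hv0 (hval _ e1)) ?_
    refine Prod.ext (Subtype.ext ?_) ?_
    · show (⟨v, 0⟩ : Heis c) * x.1.1 * (⟨v, 0⟩ : Heis c)⁻¹ =
        x.1.1 * ((z₀ ^ (A v x.1.1.u).val).1).1
      rw [conj_eq, hA]
      simp [z₀, cen_pow, ZMod.natCast_zmod_val]
    · show 1 * x.2 * 1⁻¹ = x.2 * (z₀ ^ (A v x.1.1.u).val).2
      simp [z₀]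
  -- their degree
  have hK₀ : Nat.card K₀ = Nat.card (Fix.fix (U := U) h) * p := by
    refine Eq.trans ?_ ((Nat.card_prod (Fix.fix (U := U) h) (ZMod p)).trans (by rw [Nat.card_zmod]))
    exact Nat.card_congr
      { toFun := fun x => (⟨x.1.u, x.2⟩, x.1.z)
        invFun := fun y => ⟨⟨y.1.1, y.2⟩, y.1.2⟩
        left_inv := fun _ => rfl
        right_inv := fun _ => rfl }
  have hfixU : Nat.card (Fix.fix (U := U) h) ∣ p ^ (2 * n) :=
    hU ▸ AddSubgroup.card_addSubgroup_dvd_card _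
  have hdeg : ∀ ξ : Cfsg.IrrCharacter (↥K₀ × ↥Z), m ξ ≠ 0 → ∃ d : ℕ,
      (ξ : ↥K₀ × ↥Z → ℂ) 1 = ((p ^ d : ℕ) : ℂ) ∧ Nat.card (Fix.fix (U := U) h) = p ^ (2 * d) := by
    intro ξ hξ
    obtain ⟨k, -, hk⟩ := irr_one_pos ξ.2
    let S : Finset (↥K₀ × ↥Z) := (Finset.univ : Finset (ZMod p × ↥Z)).map
      ⟨fun q => (⟨cen c q.1, hzero q.1⟩, q.2), fun q q' e1 => by
        simp only [Prod.mk.injEq, Subtype.mk.injEq] at e1
        exact Prod.ext (congrArg Heis.z e1.1) e1.2⟩
    have hsq := degree_sq ξ.2 S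
      (fun x hx => by
        obtain ⟨q, -, rfl⟩ := Finset.mem_map.1 hx
        exact hcenK q.1 q.2)
      (fun x hx => hξvanish ξ hξ x fun e1 => hx (Finset.mem_map.2 ⟨(x.1.1.z, x.2), Finset.mem_univ _,
        Prod.ext (Subtype.ext (Heis.ext e1.symm rfl)) rfl⟩)) hk
    rw [Finset.card_map, Finset.card_univ, ← Nat.card_eq_fintype_card, Nat.card_prod, Nat.card_prod,
      Nat.card_zmod, hK₀] at hsq
    have hkf : k * k = Nat.card (Fix.fix (U := U) h) := by
      refine Nat.eq_of_mul_eq_mul_right (Nat.mul_pos hp.pos (Nat.card_pos (α := ↥Z))) ?_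
      rw [hsq, mul_assoc]
    obtain ⟨d, -, rfl⟩ := (Nat.dvd_prime_pow hp).1 ((Dvd.intro k hkf).trans hfixU)
    exact ⟨d, hk, by rw [← hkf, two_mul, pow_add]⟩
  obtain ⟨ξ₀, hξ₀⟩ : ∃ ξ, m ξ ≠ 0 := by
    by_contra hne
    push Not at hne
    have h1 := congrFun hm 1
    simp [hne, map_one, irr_one_ne_zero hψ] at h1
  obtain ⟨d, -, hd⟩ := hdeg ξ₀ hξ₀
  have hdeq : ∀ ξ : Cfsg.IrrCharacter (↥K₀ × ↥Z), m ξ ≠ 0 → (ξ : ↥K₀ × ↥Z → ℂ) 1 = (p : ℂ) ^ d := by
    intro ξ hξ
    obtain ⟨d', hd', hd2⟩ := hdeg ξ hξ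
    rw [hd', show d' = d by have := Nat.pow_right_injective hp.two_le (hd2.symm.trans hd); omega,
      Nat.cast_pow]
  let h₀ : ↥Z := ⟨h, Subgroup.mem_zpowers h⟩
  have hroot : ∀ ξ : Cfsg.IrrCharacter (↥K₀ × ↥Z), ∃ r : ℂ, IsIntegral ℤ r ∧
      (ξ : ↥K₀ × ↥Z → ℂ) (1, h₀) = r * (ξ : ↥K₀ × ↥Z → ℂ) 1 := by
    intro ξ
    obtain ⟨r, hr, -, hrint, -⟩ := exists_scalar ξ.2 (z := ((1 : ↥K₀), h₀))
      (Subgroup.mem_center_iff.2 fun y => Prod.ext (by simp) (mul_comm' _ _))
    exact ⟨r, hrint, by rw [← hr, one_mul]⟩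
  choose r hr hr' using hroot
  set t : ℂ := ∑ ξ, (m ξ : ℂ) * r ξ with ht
  have hφ : ψ (ir h) = (p : ℂ) ^ d * t := by
    have h1 := congrFun hm (1, h₀)
    simp only [Function.comp_apply, Finset.sum_apply, Pi.smul_apply, smul_eq_mul] at h1
    rw [show ι (1, h₀) = ir h by simp [ι, h₀]] at h1
    rw [h1, ht, Finset.mul_sum]
    refine Finset.sum_congr rfl fun ξ _ => ?_
    rcases eq_or_ne (m ξ) 0 with h0 | h0
    · simp [h0]
    · rw [hr', hdeq ξ h0]; ring
  have hdn : d ≤ n := by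
    have := Nat.pow_dvd_pow_iff_le_right hp.one_lt |>.1 (hd ▸ hfixU)
    omega
  refine ⟨d, t, hdn, hd, hφ,
    IsIntegral.sum _ fun ξ _ => (Integrality.isIntegral_natCast _).mul (hr ξ), ?_⟩
  -- vanishing at fixed points
  have hvan : ∀ f : U, h • f = f → f ≠ 0 → ψ (il ⟨f, 0⟩ * ir h) = 0 := by
    intro f hf hf0
    have h1 := congrFun hm (⟨⟨f, 0⟩, hf⟩, h₀)
    simp only [Function.comp_apply, Finset.sum_apply, Pi.smul_apply, smul_eq_mul] at h1
    rw [show ι (⟨⟨f, 0⟩, hf⟩, h₀) = il ⟨f, 0⟩ * ir h by simp [ι, h₀]] at h1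
    rw [h1]
    refine Finset.sum_eq_zero fun ξ _ => ?_
    rcases eq_or_ne (m ξ) 0 with h0 | h0
    · simp [h0]
    · rw [hξvanish ξ h0 _ hf0, mul_zero]
  -- the absolute values on the coset of the extension
  have hnorm1 : ∀ (x : Heis c), ψ (il x * ir h) * conj (ψ (il x * ir h)) =
      ψ (il ⟨x.u, 0⟩ * ir h) * conj (ψ (il ⟨x.u, 0⟩ * ir h)) := by
    intro x
    have e1 : il x * ir h = il ⟨x.u, 0⟩ * ir h * il (cen c 1) ^ x.z.val := by
      rw [mul_assoc, Subgroup.mem_center_iff.1 (Subgroup.pow_mem _ hzc _) (ir h), ← mul_assoc,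
        ← map_pow, cen_pow, ZMod.natCast_zmod_val, ← map_mul, ← eq_mul_cen]
    have hbb : b ^ x.z.val * conj (b ^ x.z.val) = 1 := by
      rw [Complex.mul_conj', norm_pow, Complex.norm_eq_one_of_pow_eq_one hap hp.ne_zero]; simp
    rw [e1, central_pow hb, map_mul]
    linear_combination ψ (il ⟨x.u, 0⟩ * ir h) * conj (ψ (il ⟨x.u, 0⟩ * ir h)) * hbb
  have hnorm2 : ∀ u : U, ψ (il ⟨u, 0⟩ * ir h) * conj (ψ (il ⟨u, 0⟩ * ir h)) =
      if Fix.proj p h u = 0 then ψ (ir h) * conj (ψ (ir h)) else 0 := by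
    intro u
    obtain ⟨v, hv⟩ := Fix.sub_proj_mem (nsmul_p (p := p)) hcop h u
    let f := Fix.proj p h u
    let y : (SemidirectProduct (Heis c) C (act hc)) := il ⟨v, 0⟩
    let x : Heis c := (⟨v, 0⟩ : Heis c) * ⟨f, 0⟩ * act hc h (⟨v, 0⟩ : Heis c)⁻¹
    have hxu : x.u = u := by
      show v + f + h • (-v) = u
      rw [smul_neg]
      have hv' : v - h • v = u - f := hv
      rw [← sub_eq_add_neg, add_sub_right_comm, hv', sub_add_cancel]
    have hyx : y * (il ⟨f, 0⟩ * ir h) * y⁻¹ = il x * ir h := by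
      have e1 : il (act hc h (⟨v, 0⟩ : Heis c)⁻¹) = ir h * il (⟨v, 0⟩ : Heis c)⁻¹ * ir h⁻¹ :=
        SemidirectProduct.inl_aut h _
      simp only [y, x]
      rw [map_mul, map_mul, e1, map_inv, map_inv]
      group
    have key : ψ (il x * ir h) = ψ (il ⟨f, 0⟩ * ir h) := by rw [← hyx, hψclass]
    have := hnorm1 x
    rw [key, hxu] at this
    rw [← this]
    split_ifs with hf
    · rw [show (⟨f, 0⟩ : Heis c) = 1 from Heis.ext hf rfl, map_one, one_mul]
    · rw [hvan f (Fix.proj_mem h u) hf, zero_mul]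
  haveI := Fintype.ofFinite (SemidirectProduct (Heis c) C (act hc))
  haveI := Fintype.ofFinite U
  haveI : Fintype (Heis c) := Fintype.ofFinite _
  haveI : Fintype ↥N := Fintype.ofEquiv _ e.toEquiv
  have hquot := congrFun (Average.quotChar_self N hψ (by
    rw [show (fun m : N => ψ m) = θN from funext hψN]; exact hθN)) (ir h)
  rw [Average.quotChar_apply, inv_mul_eq_iff_eq_mul₀ natCard_ne_zero, mul_one] at hquot
  rw [← Equiv.sum_comp e.toEquiv, ← Nat.card_congr e.toEquiv] at hquot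
  simp only [MulEquiv.toEquiv_eq_coe, MulEquiv.coe_toEquiv,
    show ∀ x, ((e x : N) : (SemidirectProduct (Heis c) C (act hc))) = il x from fun _ => rfl] at hquot
  let g : U → ℂ := fun u => if Fix.proj p h u = 0 then ψ (ir h) * conj (ψ (ir h)) else 0
  have hsum : ∑ x : Heis c, g x.u = (p : ℂ) * ∑ u : U, g u := by
    rw [← (equivProd c).symm.sum_comp, Fintype.sum_prod_type, Finset.mul_sum]
    refine Finset.sum_congr rfl fun u _ => ?_
    show ∑ _t : ZMod p, g u = _
    rw [Finset.sum_const, Finset.card_univ, ZMod.card, nsmul_eq_mul]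
  rw [Finset.sum_congr rfl (fun x _ => (hnorm1 x).trans (hnorm2 x.u)), hsum] at hquot
  simp only [g] at hquot
  rw [← Finset.sum_filter, Finset.sum_const, nsmul_eq_mul, card_heis] at hquot
  have hcnt : (Finset.univ.filter fun u : U => Fix.proj p h u = 0).card =
      Nat.card (Fix.move (U := U) h).range := by
    rw [← Fintype.card_subtype, ← Nat.card_eq_fintype_card]
    exact Nat.card_congr (Equiv.subtypeEquivRight fun u => Fix.proj_eq_zero_iff (nsmul_p (p := p)) hcop h u)
  rw [hcnt, hφ, ← Fix.card_fix_mul (U := U) (nsmul_p (p := p)) hcop h, hd] at hquot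
  have hR : (Nat.card (Fix.move (U := U) h).range : ℂ) ≠ 0 := Nat.cast_ne_zero.2 Nat.card_pos.ne'
  have hp0 : (p : ℂ) ≠ 0 := Nat.cast_ne_zero.2 hp.ne_zero
  simp only [map_mul, map_pow, Complex.conj_natCast] at hquot
  push_cast at hquot
  rw [two_mul, pow_add] at hquot
  refine mul_left_cancel₀ (mul_ne_zero (mul_ne_zero hp0 hR)
    (mul_ne_zero (pow_ne_zero d hp0) (pow_ne_zero d hp0))) ?_
  linear_combination hquot

end Cfsg.Agent.CharTheory.KGV.Weil
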